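/-
Minimal non-solvable groups all of whose subgroups of order prime to `p` are abelian of exponent
dividing `p - 1`: structure of the proper subgroups, transfer.

Main results: `Cfg.decompose`, `Cfg.cent_mod`, `Cfg.eq_one_of_commute_normalizer`.
-/
import Cfsg.Agent.Lib.Solvable.Hall
import Cfsg.Agent.Lib.Solvable.Fitting
import Cfsg.Agent.Lib.Components.GenFitting

set_option autoImplicit false

namespace Cfsg.Agent.AbelianPPrime

open Subgroup
open scoped Pointwise

universe u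

variable {G : Type u} [Group G] [Finite G] {p : ℕ}

/-- A minimal non-solvable group with abelian `p'`-subgroups of exponent dividing `p - 1`. -/
structure Cfg (p : ℕ) (G : Type u) [Group G] : Prop where
  prime : p.Prime
  five_le : 5 ≤ p
  hyp : ∀ H : Subgroup G, (Nat.card ↥H).Coprime p →
    IsMulCommutative ↥H ∧ ∀ x ∈ H, x ^ (p - 1) = 1
  simple : IsSimpleGroup G
  nonabelian : ¬ IsMulCommutative G
  sol : ∀ X : Subgroup G, X ≠ ⊤ → Group.IsSolvable ↥X

/-- `O_p(X)` inside `G`. -/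
abbrev Op (p : ℕ) (X : Subgroup G) : Subgroup G := (Cfsg.pCore p ↥X).map X.subtype

/-- `H` is a complement of a Sylow `p`-subgroup of `X`. -/
def IsCompl (p : ℕ) (H X : Subgroup G) : Prop :=
  H ≤ X ∧ (Nat.card ↥H).Coprime p ∧ ∃ k, Nat.card ↥X = Nat.card ↥H * p ^ k

omit [Finite G] in
theorem Op_le (X : Subgroup G) : Op p X ≤ X := map_subtype_le _

omit [Finite G] in
theorem isPGroup_Op (X : Subgroup G) : IsPGroup p ↥(Op p X) :=
  (Cores.isPGroup_pCore p ↥X).map _

omit [Finite G] in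
theorem le_normalizer_Op (X : Subgroup G) : X ≤ normalizer (Op p X : Set G) :=
  le_normalizer.trans (Cores.normalizer_le_normalizer_map (Cfsg.pCore p ↥X))

theorem isPiNum_compl_iff {n : ℕ} (hp : p.Prime) :
    Solvable.IsPiNum ({p}ᶜ : Set ℕ) n ↔ n.Coprime p := by
  rw [Cores.coprime_iff_primes]
  exact ⟨fun h q hq hd hqp => h q hq hd ((Nat.prime_dvd_prime_iff_eq hq hp).mp hqp),
    fun h q hq hd (e : q = p) => h q hq hd (e ▸ dvd_rfl)⟩

theorem isCompl_map (hp : p.Prime) {X : Subgroup G} {H : Subgroup ↥X}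
    (h : Cfsg.IsPiHall ({p}ᶜ : Set ℕ) H) : IsCompl p (H.map X.subtype) X := by
  rw [Solvable.isPiHall_iff] at h
  refine ⟨map_subtype_le _, by rw [Cores.card_map_subtype]; exact (isPiNum_compl_iff hp).mp h.1, ?_⟩
  refine ⟨H.index.primeFactorsList.length, ?_⟩
  rw [Cores.card_map_subtype, ← Subgroup.card_mul_index H]
  congr 1
  exact Nat.eq_prime_pow_of_unique_prime_dvd index_ne_zero_of_finite fun {d} hd hdvd => by
    simpa using h.2 d hd hdvd

theorem isPiHall_of_isCompl (hp : p.Prime) {H X : Subgroup G} (h : IsCompl p H X) :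
    Cfsg.IsPiHall ({p}ᶜ : Set ℕ) (H.subgroupOf X) := by
  obtain ⟨hle, hco, k, hk⟩ := h
  rw [Solvable.isPiHall_iff, Cores.card_subgroupOf hle]
  refine ⟨(isPiNum_compl_iff hp).mpr hco, ?_⟩
  have hidx : (H.subgroupOf X).index = p ^ k := by
    have := Subgroup.card_mul_index (H.subgroupOf X)
    rw [Cores.card_subgroupOf hle, hk] at this
    exact Nat.eq_of_mul_eq_mul_left Nat.card_pos this
  intro q hq hd
  rw [hidx] at hd
  simpa using (Nat.prime_dvd_prime_iff_eq hq hp).mp (hq.dvd_of_dvd_pow hd)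

theorem conj_isCompl {H X : Subgroup G} (h : IsCompl p H X) {g : G}
    (hg : g ∈ normalizer (X : Set G)) : IsCompl p (H.map (MulAut.conj g).toMonoidHom) X := by
  obtain ⟨hle, hco, hk⟩ := h
  have hc : Nat.card ↥(H.map (MulAut.conj g).toMonoidHom) = Nat.card ↥H :=
    (Nat.card_congr (H.equivMapOfInjective _ (MulAut.conj g).injective).toEquiv).symm
  refine ⟨?_, hc ▸ hco, hc ▸ hk⟩
  rintro _ ⟨a, ha, rfl⟩
  exact (mem_normalizer_iff.mp hg a).mp (hle ha)

theorem card_eq_of_isCompl (hp : p.Prime) {H K X : Subgroup G} (hH : IsCompl p H X)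
    (hK : IsCompl p K X) : Nat.card ↥H = Nat.card ↥K := by
  rw [← Cores.card_subgroupOf hH.1, ← Cores.card_subgroupOf hK.1]
  exact Solvable.card_eq_of_isPiHall (isPiHall_of_isCompl hp hH) (isPiHall_of_isCompl hp hK)

theorem IsCompl.eq_of_le (hp : p.Prime) {H K X : Subgroup G} (hH : IsCompl p H X) (hKX : K ≤ X)
    (hle : H ≤ K) (hK : (Nat.card ↥K).Coprime p) : H = K := by
  have h := Solvable.eq_of_le_of_isPiNum (isPiHall_of_isCompl hp hH) (K := K.subgroupOf X)
    (fun z hz => hle hz) (by rw [Cores.card_subgroupOf hKX]; exact (isPiNum_compl_iff hp).mpr hK)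
  have := congrArg (Subgroup.map X.subtype) h
  rwa [map_subgroupOf_eq_of_le hH.1, map_subgroupOf_eq_of_le hKX] at this

theorem IsCompl.le_of_normal (hp : p.Prime) {H K X : Subgroup G} (hH : IsCompl p H X)
    (hn : X ≤ normalizer (H : Set G)) (hKX : K ≤ X) (hK : (Nat.card ↥K).Coprime p) : K ≤ H := by
  haveI : (H.subgroupOf X).Normal := normal_subgroupOf_of_le_normalizer hn
  have h1 := Solvable.isPiNum_card_sup (π := ({p}ᶜ : Set ℕ)) (H := K.subgroupOf X)
    (N := H.subgroupOf X) (by rw [Cores.card_subgroupOf hKX]; exact (isPiNum_compl_iff hp).mpr hK)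
    (by rw [Cores.card_subgroupOf hH.1]; exact (isPiNum_compl_iff hp).mpr hH.2.1)
  have h2 := Solvable.eq_of_le_of_isPiNum (isPiHall_of_isCompl hp hH) le_sup_right h1
  intro x hx
  have h3 : (⟨x, hKX hx⟩ : ↥X) ∈ K.subgroupOf X ⊔ H.subgroupOf X := mem_sup_left hx
  rw [← h2] at h3
  exact h3

theorem IsCompl.mem_of_normal (hp : p.Prime) {H X : Subgroup G} (hH : IsCompl p H X)
    (hn : X ≤ normalizer (H : Set G)) {x : G} (hx : x ∈ X) (ho : (orderOf x).Coprime p) : x ∈ H :=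
  zpowers_le.mp (hH.le_of_normal hp hn (zpowers_le.mpr hx) (by rwa [Nat.card_zpowers]))

namespace Cfg

variable (c : Cfg p G)
include c

theorem commute {H : Subgroup G} (hH : (Nat.card ↥H).Coprime p) {a b : G} (ha : a ∈ H)
    (hb : b ∈ H) : a * b = b * a :=
  congrArg Subtype.val ((c.hyp H hH).1.1.1 ⟨a, ha⟩ ⟨b, hb⟩)

theorem le_centralizer {H K : Subgroup G} (hH : (Nat.card ↥H).Coprime p) (hK : K ≤ H) :
    H ≤ centralizer (K : Set G) := fun _ hh =>
  mem_centralizer_iff.mpr fun _ hk => c.commute hH (hK hk) hh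

theorem exists_isCompl {X : Subgroup G} (hX : X ≠ ⊤) : ∃ H, IsCompl p H X := by
  haveI := c.sol X hX
  obtain ⟨H, hH⟩ := Solvable.exists_piHall_of_solvable (G := ↥X) ({p}ᶜ : Set ℕ)
  exact ⟨_, isCompl_map c.prime hH⟩

theorem exists_isCompl_ge {X U : Subgroup G} (hX : X ≠ ⊤) (hU : U ≤ X)
    (hco : (Nat.card ↥U).Coprime p) : ∃ H, IsCompl p H X ∧ U ≤ H := by
  haveI := c.sol X hX
  obtain ⟨H, hH, hle⟩ := Solvable.exists_piHall_ge_of_solvable (G := ↥X) (π := ({p}ᶜ : Set ℕ))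
    (U := U.subgroupOf X)
    (by rw [Cores.card_subgroupOf hU]; exact (isPiNum_compl_iff c.prime).mpr hco)
  refine ⟨_, isCompl_map c.prime hH, ?_⟩
  conv_lhs => rw [← map_subgroupOf_eq_of_le hU]
  exact Subgroup.map_mono hle

theorem isCompl_conj {X H K : Subgroup G} (hX : X ≠ ⊤) (hH : IsCompl p H X) (hK : IsCompl p K X) :
    ∃ g ∈ X, H.map (MulAut.conj g).toMonoidHom = K := by
  haveI := c.sol X hX
  obtain ⟨g, hg⟩ := Solvable.piHall_conj_of_solvable (isPiHall_of_isCompl c.prime hH)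
    (isPiHall_of_isCompl c.prime hK)
  refine ⟨g, g.2, ?_⟩
  ext x
  constructor
  · rintro ⟨a, ha, rfl⟩
    have h1 : MulAut.conj g • (⟨a, hH.1 ha⟩ : ↥X) ∈ K.subgroupOf X :=
      hg ▸ Subgroup.smul_mem_pointwise_smul _ _ _ ha
    simpa [mem_subgroupOf] using h1
  · intro hx
    have h1 : (⟨x, hK.1 hx⟩ : ↥X) ∈ MulAut.conj g • H.subgroupOf X := hg.symm ▸ hx
    rw [Subgroup.mem_pointwise_smul_iff_inv_smul_mem] at h1
    refine ⟨_, h1, ?_⟩
    simp [mul_assoc]

/-- Modulo `O_p(X)` a complement is normal and contains its centralizer. -/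
theorem structure_mod {X H : Subgroup G} (hX : X ≠ ⊤) (hH : IsCompl p H X) :
    ((H.subgroupOf X).map (QuotientGroup.mk' (Cfsg.pCore p ↥X))).Normal ∧
      centralizer (((H.subgroupOf X).map (QuotientGroup.mk' (Cfsg.pCore p ↥X))) :
          Set (↥X ⧸ Cfsg.pCore p ↥X)) ≤
        (H.subgroupOf X).map (QuotientGroup.mk' (Cfsg.pCore p ↥X)) := by
  haveI : Fact p.Prime := ⟨c.prime⟩
  haveI := c.sol X hX
  set π := QuotientGroup.mk' (Cfsg.pCore p ↥X) with hπ
  have hπs : Function.Surjective π := QuotientGroup.mk'_surjective _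
  haveI : Group.IsSolvable (↥X ⧸ Cfsg.pCore p ↥X) := Group.isSolvable_of_surjective hπs
  set Hb := (H.subgroupOf X).map π with hHb
  set Q := ↥X ⧸ Cfsg.pCore p ↥X
  have hHall : Cfsg.IsPiHall ({p}ᶜ : Set ℕ) Hb :=
    Solvable.isPiHall_map (isPiHall_of_isCompl c.prime hH) hπs
  -- the Fitting subgroup is a `p'`-group
  have hFpi : Cfsg.fittingSubgroup Q ≤ Cfsg.piCore ({p}ᶜ : Set ℕ) Q := by
    rw [Cores.fittingSubgroup_eq_iSup_pCore]
    refine iSup_le fun q => ?_
    by_cases h : (q : ℕ) = p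
    · rw [h, show Cfsg.pCore p Q = ⊥ from Cores.pCore_quotient_self p ↥X]
      exact bot_le
    · haveI : Fact (q : ℕ).Prime := ⟨q.2⟩
      refine Cores.le_piCore (Cores.pCore_normal q Q) fun s hs hd => ?_
      obtain ⟨k, hk⟩ := IsPGroup.iff_card.mp (Cores.isPGroup_pCore (q : ℕ) Q)
      rw [hk] at hd
      have := (Nat.prime_dvd_prime_iff_eq hs q.2).mp (hs.dvd_of_dvd_pow hd)
      simpa [this] using h
  have hpiH : Cfsg.piCore ({p}ᶜ : Set ℕ) Q ≤ Hb :=
    Solvable.le_of_isPiHall_of_normal hHall (fun q hq hd => by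
      by_contra hne
      exact hne (Cores.card_piCore ({p}ᶜ : Set ℕ) hq hd))
  have hFH : Cfsg.fittingSubgroup Q ≤ Hb := hFpi.trans hpiH
  have hab : ∀ a ∈ Hb, ∀ b ∈ Hb, a * b = b * a := by
    rintro _ ⟨a, ha, rfl⟩ _ ⟨b, hb, rfl⟩
    rw [← map_mul, ← map_mul]
    exact congrArg π (Subtype.ext (c.commute hH.2.1 ha hb))
  have hHF : Hb ≤ Cfsg.fittingSubgroup Q := fun a ha =>
    Solvable.centralizer_fitting_le Q (mem_centralizer_iff.mpr fun f hf => hab f (hFH hf) a ha)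
  have heq : Hb = Cfsg.fittingSubgroup Q := le_antisymm hHF hFH
  rw [heq]
  exact ⟨inferInstance, Solvable.centralizer_fitting_le Q⟩

theorem sup_eq_comap {X H : Subgroup G} (hH : H ≤ X) :
    Op p X ⊔ H = (((H.subgroupOf X).map (QuotientGroup.mk' (Cfsg.pCore p ↥X))).comap
      (QuotientGroup.mk' (Cfsg.pCore p ↥X))).map X.subtype := by
  rw [comap_map_eq, QuotientGroup.ker_mk', Subgroup.map_sup, map_subgroupOf_eq_of_le hH, sup_comm]

theorem le_normalizer_sup {X H : Subgroup G} (hX : X ≠ ⊤) (hH : IsCompl p H X) :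
    X ≤ normalizer ((Op p X ⊔ H : Subgroup G) : Set G) := by
  haveI := (c.structure_mod hX hH).1
  rw [c.sup_eq_comap hH.1]
  intro g hg
  haveI : (((H.subgroupOf X).map (QuotientGroup.mk' (Cfsg.pCore p ↥X))).comap
      (QuotientGroup.mk' (Cfsg.pCore p ↥X))).Normal := Normal.comap inferInstance _
  exact le_normalizer_map (f := X.subtype)
    ⟨⟨g, hg⟩, (normalizer_eq_top (H := ((H.subgroupOf X).map
      (QuotientGroup.mk' (Cfsg.pCore p ↥X))).comap (QuotientGroup.mk' (Cfsg.pCore p ↥X)))).ge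
        (mem_top _), rfl⟩

/-- An element centralizing a complement modulo `O_p(X)` lies in their product. -/
theorem cent_mod {X H : Subgroup G} (hX : X ≠ ⊤) (hH : IsCompl p H X) {g : G} (hg : g ∈ X)
    (hc : ∀ a ∈ H, g * a * g⁻¹ * a⁻¹ ∈ Op p X) : g ∈ Op p X ⊔ H := by
  rw [c.sup_eq_comap hH.1]
  refine ⟨⟨g, hg⟩, (c.structure_mod hX hH).2 (mem_centralizer_iff.mpr ?_), rfl⟩
  rintro _ ⟨a, ha, rfl⟩
  obtain ⟨o, ho, he⟩ := hc a ha
  have e : (⟨g, hg⟩ * a * ⟨g, hg⟩⁻¹ * a⁻¹ : ↥X) = o := Subtype.ext he.symm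
  have h1 : QuotientGroup.mk' (Cfsg.pCore p ↥X) (⟨g, hg⟩ * a * ⟨g, hg⟩⁻¹ * a⁻¹) = 1 := by
    rw [e]; exact (QuotientGroup.eq_one_iff o).mpr ho
  rw [map_mul, map_mul, map_mul, map_inv, map_inv, mul_inv_eq_one, mul_inv_eq_iff_eq_mul] at h1
  exact h1.symm

/-- `p`-elements of `O_p(X) H` lie in `O_p(X)`. -/
theorem mem_op_of_pElement {X H : Subgroup G} (hH : IsCompl p H X) {g : G}
    (hg : g ∈ Op p X ⊔ H) {k : ℕ} (hk : g ^ p ^ k = 1) : g ∈ Op p X := by
  rw [c.sup_eq_comap hH.1] at hg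
  obtain ⟨g', hg', rfl⟩ := hg
  refine ⟨g', ?_, rfl⟩
  set π := QuotientGroup.mk' (Cfsg.pCore p ↥X)
  have hmem : π g' ∈ (H.subgroupOf X).map π := hg'
  refine (QuotientGroup.eq_one_iff g').mp (show π g' = 1 from ?_)
  rw [← orderOf_eq_one_iff]
  refine Nat.eq_one_of_dvd_coprimes (hH.2.1.pow_right k)
    ((Subgroup.orderOf_dvd_natCard _ hmem).trans
      ((card_map_dvd _ π).trans (Cores.card_subgroupOf hH.1).dvd)) (orderOf_dvd_of_pow_eq_one ?_)
  have : g' ^ p ^ k = 1 := Subtype.ext (by simpa using hk)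
  rw [← map_pow, this, map_one]

/-- `X = O_p(X) N_X(H)`. -/
theorem decompose {X H : Subgroup G} (hX : X ≠ ⊤) (hH : IsCompl p H X) {g : G} (hg : g ∈ X) :
    ∃ o ∈ Op p X, ∃ n ∈ X, n ∈ normalizer (H : Set G) ∧ g = o * n := by
  have hY : Op p X ⊔ H ≤ X := sup_le (Op_le X) hH.1
  have hYt : Op p X ⊔ H ≠ ⊤ := fun h => hX (top_le_iff.mp (h ▸ hY))
  have hHY : IsCompl p H (Op p X ⊔ H) := by
    refine ⟨le_sup_right, hH.2.1, ?_⟩
    obtain ⟨k, hk⟩ := hH.2.2
    obtain ⟨m, hm⟩ := Subgroup.card_dvd_of_le (le_sup_right : H ≤ Op p X ⊔ H)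
    have hd : m ∣ p ^ k := by
      have := Subgroup.card_dvd_of_le hY
      rw [hm, hk] at this
      exact Nat.dvd_of_mul_dvd_mul_left Nat.card_pos this
    obtain ⟨j, -, rfl⟩ := (Nat.dvd_prime_pow c.prime).mp hd
    exact ⟨j, hm⟩
  obtain ⟨y, hy, hye⟩ := c.isCompl_conj hYt hHY
    (conj_isCompl hHY (c.le_normalizer_sup hX hH hg))
  rw [← SetLike.mem_coe, coe_mul_of_right_le_normalizer_left (Op p X) H
    (hH.1.trans (le_normalizer_Op X))] at hy
  obtain ⟨o, ho, h, hh, rfl⟩ := hy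
  refine ⟨o, ho, o⁻¹ * g, X.mul_mem (X.inv_mem (Op_le X ho)) hg, ?_, by group⟩
  rw [mem_normalizer_iff_map_conj_eq]
  have hh' : H.map (MulAut.conj h).toMonoidHom = H :=
    mem_normalizer_iff_map_conj_eq.mp (le_normalizer hh)
  have ho' : H.map (MulAut.conj o).toMonoidHom = H.map (MulAut.conj g).toMonoidHom := by
    rw [← hye]
    conv_lhs => rw [← hh', Subgroup.map_map]
    congr 1
    ext x
    simp [mul_assoc]
  calc H.map (MulAut.conj (o⁻¹ * g)).toMonoidHom
      = (H.map (MulAut.conj g).toMonoidHom).map (MulAut.conj o⁻¹).toMonoidHom := by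
        rw [Subgroup.map_map]; congr 1; ext x; simp [mul_assoc]
    _ = (H.map (MulAut.conj o).toMonoidHom).map (MulAut.conj o⁻¹).toMonoidHom := by rw [ho']
    _ = H := by
        rw [Subgroup.map_map]
        convert Subgroup.map_id H using 2
        ext x
        simp [mul_assoc]

/-- The only element of an abelian Sylow subgroup commuting with its normalizer is trivial. -/
theorem eq_one_of_commute_normalizer {r : ℕ} [Fact r.Prime] (R : Sylow r G)
    (hR : IsMulCommutative ↥(R : Subgroup G)) {x : G} (hx : x ∈ (R : Subgroup G))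
    (hc : ∀ g ∈ normalizer ((R : Subgroup G) : Set G), g * x = x * g) : x = 1 := by
  haveI := hR
  let i : CommGroup ↥(R : Subgroup G) :=
    { (inferInstance : Group ↥(R : Subgroup G)) with mul_comm := fun a b => hR.1.1 a b }
  let φ : G →* ↥(R : Subgroup G) := MonoidHom.transfer (MonoidHom.id ↥(R : Subgroup G))
  have key : ∀ (k : ℕ) (g₀ : G), g₀⁻¹ * x ^ k * g₀ ∈ (R : Subgroup G) →
      g₀⁻¹ * x ^ k * g₀ = x ^ k := by
    intro k g₀ h
    obtain ⟨n, hn, he⟩ := R.conj_eq_normalizer_conj_of_mem (x ^ k) g₀ (pow_mem hx k) h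
    rw [he, mul_assoc, ← (Commute.pow_right (hc n hn) k).eq, inv_mul_cancel_left]
  have hφ : φ x = ⟨x ^ (R : Subgroup G).index, MonoidHom.transfer_eq_pow_aux x key⟩ :=
    MonoidHom.transfer_eq_pow _ x key
  haveI := c.simple
  rcases Subgroup.Normal.eq_bot_or_eq_top (inferInstance : φ.ker.Normal) with h | h
  · refine absurd ⟨⟨fun a b => ?_⟩⟩ c.nonabelian
    exact (MonoidHom.ker_eq_bot_iff φ).mp h (by rw [map_mul, map_mul, mul_comm])
  · have h1 : φ x = 1 := MonoidHom.mem_ker.mp (h ▸ mem_top x)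
    rw [hφ] at h1
    have h2 : x ^ (R : Subgroup G).index = 1 := congrArg Subtype.val h1
    obtain ⟨k, hk⟩ := IsPGroup.iff_card.mp R.2
    have hco : (orderOf x).Coprime (R : Subgroup G).index := by
      refine Nat.Coprime.coprime_dvd_left (Subgroup.orderOf_dvd_natCard _ hx) ?_
      rw [hk]
      exact (((Fact.out : r.Prime).coprime_iff_not_dvd).mpr R.not_dvd_index).pow_left k
    exact orderOf_eq_one_iff.mp
      (hco.eq_one_of_dvd (orderOf_dvd_of_pow_eq_one h2))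

end Cfg

end Cfsg.Agent.AbelianPPrime
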