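/-
Maximal `p'`-subgroups of the configuration of `AbelianPPrime.Basic`: complements `A` of `C(R)` for
Sylow subgroups `R`, the rank of `R`, and the largest `A`-invariant `p`-subgroup.

Main results: `IsTorus.isCompl_centralizer`, `IsTorus.three_le_rank`, `IsTorus.exists_greatest`.
-/
import Cfsg.Agent.Lib.AbelianPPrime.Basic
import Cfsg.Agent.Lib.Signalizer.Transitivity
import Cfsg.Agent.Lib.Transfer.Residual

set_option autoImplicit false

namespace Cfsg.Agent.AbelianPPrime

open Subgroup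
open scoped Pointwise

universe u

variable {G : Type u} [Group G] [Finite G] {p : ℕ}

/-- A complement of the centralizer of a Sylow `r`-subgroup, `r ≠ p`. -/
def IsTorus (p : ℕ) (A : Subgroup G) : Prop :=
  ∃ r : ℕ, r.Prime ∧ r ≠ p ∧ r ∣ Nat.card G ∧
    ∃ R : Sylow r G, IsCompl p A (centralizer ((R : Subgroup G) : Set G))

omit [Finite G] in
theorem mem_conj_map {H : Subgroup G} {g x : G} :
    x ∈ H.map (MulAut.conj g).toMonoidHom ↔ g⁻¹ * x * g ∈ H := by
  constructor
  · rintro ⟨d, hd, rfl⟩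
    simpa [mul_assoc] using hd
  · intro h
    exact ⟨_, h, by simp [mul_assoc]⟩

omit [Finite G] in
theorem normalizer_le_normalizer_cent (S : Subgroup G) :
    normalizer (S : Set G) ≤ normalizer (centralizer (S : Set G) : Set G) := by
  intro g hg
  rw [mem_normalizer_iff]
  intro x
  simp only [mem_centralizer_iff]
  constructor
  · intro hx a ha
    have h1 := hx _ ((mem_normalizer_iff.mp (inv_mem hg) a).mp ha)
    rw [inv_inv] at h1
    calc a * (g * x * g⁻¹) = g * ((g⁻¹ * a * g) * x) * g⁻¹ := by group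
      _ = _ := by rw [h1]; group
  · intro hx a ha
    have h1 := hx _ ((mem_normalizer_iff.mp hg a).mp ha)
    calc a * x = g⁻¹ * ((g * a * g⁻¹) * (g * x * g⁻¹)) * g := by group
      _ = _ := by rw [h1]; group

theorem card_conj_map (H : Subgroup G) (g : G) :
    Nat.card ↥(H.map (MulAut.conj g).toMonoidHom) = Nat.card ↥H :=
  (Nat.card_congr (H.equivMapOfInjective _ (MulAut.conj g).injective).toEquiv).symm

omit [Finite G] in
theorem conj_map_conj_map (H : Subgroup G) (a b : G) :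
    (H.map (MulAut.conj b).toMonoidHom).map (MulAut.conj a).toMonoidHom =
      H.map (MulAut.conj (a * b)).toMonoidHom := by
  rw [Subgroup.map_map]; congr 1; ext x; simp [mul_assoc]

omit [Finite G] in
theorem conj_map_one (H : Subgroup G) : H.map (MulAut.conj (1 : G)).toMonoidHom = H := by
  ext x; rw [mem_conj_map]; simp

theorem IsCompl.of_between {H Y X : Subgroup G} (hp : p.Prime) (hH : IsCompl p H X) (hHY : H ≤ Y)
    (hYX : Y ≤ X) : IsCompl p H Y := by
  refine ⟨hHY, hH.2.1, ?_⟩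
  obtain ⟨k, hk⟩ := hH.2.2
  obtain ⟨m, hm⟩ := Subgroup.card_dvd_of_le hHY
  have hd : m ∣ p ^ k := by
    have := Subgroup.card_dvd_of_le hYX
    rw [hm, hk] at this
    exact Nat.dvd_of_mul_dvd_mul_left Nat.card_pos this
  obtain ⟨j, -, rfl⟩ := (Nat.dvd_prime_pow hp).mp hd
  exact ⟨j, hm⟩

theorem coprime_card_sup {H K : Subgroup G} (hK : K ≤ normalizer (H : Set G))
    (h1 : (Nat.card ↥H).Coprime p) (h2 : (Nat.card ↥K).Coprime p) :
    (Nat.card ↥(H ⊔ K)).Coprime p := by
  have hle : H ⊔ K ≤ normalizer (H : Set G) := sup_le le_normalizer hK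
  haveI : (H.subgroupOf (H ⊔ K)).Normal := normal_subgroupOf_of_le_normalizer hle
  have h := Solvable.card_sup_dvd (K.subgroupOf (H ⊔ K)) (H.subgroupOf (H ⊔ K))
  rw [Cores.card_subgroupOf le_sup_left, Cores.card_subgroupOf le_sup_right] at h
  have ht : K.subgroupOf (H ⊔ K) ⊔ H.subgroupOf (H ⊔ K) = ⊤ := by
    rw [← Subgroup.subgroupOf_sup le_sup_right le_sup_left, sup_comm, subgroupOf_self]
  rw [ht, card_top] at h
  exact (Nat.Coprime.mul_left h2 h1).coprime_dvd_left h

theorem pow_pred_eq_one_of_prime (c : Cfg p G) {r : ℕ} (hr : r.Prime) (hrp : r ≠ p)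
    (hd : r ∣ Nat.card G) : r < p := by
  haveI : Fact r.Prime := ⟨hr⟩
  obtain ⟨x, hx⟩ := exists_prime_orderOf_dvd_card' (G := G) r hd
  have h := (c.hyp (zpowers x) (by
    rw [Nat.card_zpowers, hx]; exact (Nat.coprime_primes hr c.prime).mpr hrp)).2 x (mem_zpowers x)
  have h1 := Nat.le_of_dvd (by have := c.five_le; omega) (hx ▸ orderOf_dvd_of_pow_eq_one h)
  have := c.five_le
  omega

namespace Cfg

variable (c : Cfg p G)
include c

theorem centralizer_ne_top {x : G} (hx : x ≠ 1) : centralizer ({x} : Set G) ≠ ⊤ := by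
  intro h
  haveI := c.simple
  have hxc : x ∈ center G := mem_center_iff.mpr fun y =>
    mem_centralizer_singleton_iff.mp (h ▸ mem_top y)
  rcases Subgroup.Normal.eq_bot_or_eq_top (inferInstance : (center G).Normal) with e | e
  · rw [e] at hxc
    exact hx (mem_bot.mp hxc)
  · exact c.nonabelian ⟨⟨fun a b => (mem_center_iff.mp (e ▸ mem_top b) a)⟩⟩

theorem normalizer_ne_top {H : Subgroup G} (h1 : H ≠ ⊥) (h2 : H ≠ ⊤) :
    normalizer (H : Set G) ≠ ⊤ := fun h => by
  haveI := c.simple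
  rcases Subgroup.Normal.eq_bot_or_eq_top (normalizer_eq_top_iff.mp h) with e | e
  · exact h1 e
  · exact h2 e

theorem not_isPGroup (r : ℕ) [Fact r.Prime] {H : Subgroup G} (h : IsPGroup r ↥H) : H ≠ ⊤ := by
  rintro rfl
  haveI := c.simple
  haveI := (h.of_equiv topEquiv).isNilpotent
  exact c.nonabelian ⟨⟨(IsSimpleGroup.comm_iff_isSolvable (G := G)).2 inferInstance⟩⟩

theorem coprime_of_isPGroup {r : ℕ} (hr : r.Prime) (hrp : r ≠ p) {H : Subgroup G}
    (h : IsPGroup r ↥H) : (Nat.card ↥H).Coprime p := by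
  haveI : Fact r.Prime := ⟨hr⟩
  obtain ⟨k, hk⟩ := IsPGroup.iff_card.mp h
  rw [hk]
  exact ((Nat.coprime_primes hr c.prime).mpr hrp).pow_left k

theorem le_conj_of_le {X A U : Subgroup G} (hX : X ≠ ⊤) (hA : IsCompl p A X) (hU : U ≤ X)
    (hco : (Nat.card ↥U).Coprime p) :
    ∃ g ∈ X, U.map (MulAut.conj g).toMonoidHom ≤ A := by
  obtain ⟨H, hH, hUH⟩ := c.exists_isCompl_ge hX hU hco
  obtain ⟨g, hg, rfl⟩ := c.isCompl_conj hX hH hA
  exact ⟨g, hg, Subgroup.map_mono hUH⟩

theorem exists_torus {r : ℕ} (hr : r.Prime) (hrp : r ≠ p) (hd : r ∣ Nat.card G) (R : Sylow r G) :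
    ∃ A, IsTorus p A ∧ (R : Subgroup G) ≤ A ∧
      IsCompl p A (centralizer ((R : Subgroup G) : Set G)) := by
  haveI : Fact r.Prime := ⟨hr⟩
  have hne : (R : Subgroup G) ≠ ⊥ := R.ne_bot_of_dvd_card hd
  have hX : centralizer ((R : Subgroup G) : Set G) ≠ ⊤ := fun h =>
    c.normalizer_ne_top hne (c.not_isPGroup r R.2) (top_le_iff.mp (h ▸ centralizer_le_normalizer _))
  obtain ⟨A, hA, hRA⟩ := c.exists_isCompl_ge hX
    (c.le_centralizer (c.coprime_of_isPGroup hr hrp R.2) le_rfl) (c.coprime_of_isPGroup hr hrp R.2)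
  exact ⟨A, ⟨r, hr, hrp, hd, R, hA⟩, hRA, hA⟩

end Cfg

namespace IsTorus

variable {c : Cfg p G} {A : Subgroup G}

theorem coprime (hA : IsTorus p A) : (Nat.card ↥A).Coprime p := by
  obtain ⟨r, -, -, -, R, h⟩ := hA
  exact h.2.1

theorem exists_sylow_le (c : Cfg p G) (hA : IsTorus p A) :
    ∃ r : ℕ, r.Prime ∧ r ≠ p ∧ r ∣ Nat.card G ∧ ∃ R : Sylow r G,
      IsCompl p A (centralizer ((R : Subgroup G) : Set G)) ∧ (R : Subgroup G) ≤ A := by
  obtain ⟨r, hr, hrp, hd, R, h⟩ := hA
  haveI : Fact r.Prime := ⟨hr⟩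
  refine ⟨r, hr, hrp, hd, R, h, ?_⟩
  have hRC := c.le_centralizer (c.coprime_of_isPGroup hr hrp R.2) (le_refl (R : Subgroup G))
  have hX : centralizer ((R : Subgroup G) : Set G) ≠ ⊤ := fun e =>
    c.normalizer_ne_top (R.ne_bot_of_dvd_card hd) (c.not_isPGroup r R.2)
      (top_le_iff.mp (e ▸ centralizer_le_normalizer _))
  obtain ⟨g, hg, hgA⟩ := c.le_conj_of_le hX h hRC (c.coprime_of_isPGroup hr hrp R.2)
  intro x hx
  refine hgA (mem_conj_map.mpr ?_)
  have : x * g = g * x := (mem_centralizer_iff.mp hg x hx)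
  rw [mul_assoc, this, inv_mul_cancel_left]
  exact hx

theorem ne_bot (c : Cfg p G) (hA : IsTorus p A) : A ≠ ⊥ := by
  obtain ⟨r, hr, -, hd, R, -, hle⟩ := hA.exists_sylow_le c
  haveI : Fact r.Prime := ⟨hr⟩
  exact fun e => R.ne_bot_of_dvd_card hd (le_bot_iff.mp (e ▸ hle))

theorem ne_top (c : Cfg p G) (hA : IsTorus p A) : A ≠ ⊤ := fun e => by
  haveI := c.simple
  refine c.nonabelian ⟨⟨fun a b => ?_⟩⟩
  exact c.commute hA.coprime (e ▸ mem_top a) (e ▸ mem_top b)

/-- A torus is a complement in the centralizer of each of its nontrivial elements. -/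
theorem isCompl_centralizer (c : Cfg p G) (hA : IsTorus p A) {e : G} (he : e ∈ A) (he1 : e ≠ 1) :
    IsCompl p A (centralizer ({e} : Set G)) := by
  obtain ⟨r, hr, hrp, hd, R, hC, hRA⟩ := hA.exists_sylow_le c
  have hAe : A ≤ centralizer ({e} : Set G) := fun a ha =>
    mem_centralizer_singleton_iff.mpr (c.commute hA.coprime ha he)
  obtain ⟨H, hH, hAH⟩ := c.exists_isCompl_ge (c.centralizer_ne_top he1) hAe hA.coprime
  rw [hC.eq_of_le c.prime (c.le_centralizer hH.2.1 (hRA.trans hAH)) hAH hH.2.1]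
  exact hH

/-- A torus is a complement in every proper subgroup lying between it and the normalizer of the
Sylow subgroup. -/
theorem eq_of_le (c : Cfg p G) (hA : IsTorus p A) {H : Subgroup G} (hAH : A ≤ H)
    (hH : (Nat.card ↥H).Coprime p) : A = H := by
  obtain ⟨r, hr, hrp, hd, R, hC, hRA⟩ := hA.exists_sylow_le c
  exact hC.eq_of_le c.prime (c.le_centralizer hH (hRA.trans hAH)) hAH hH

theorem isCompl_of_le (c : Cfg p G) (hA : IsTorus p A) {X : Subgroup G} (hX : X ≠ ⊤) (hAX : A ≤ X) :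
    IsCompl p A X := by
  obtain ⟨H, hH, hAH⟩ := c.exists_isCompl_ge hX hAX hA.coprime
  rw [hA.eq_of_le c hAH hH.2.1]
  exact hH

theorem normalizer_ne_top (c : Cfg p G) (hA : IsTorus p A) : normalizer (A : Set G) ≠ ⊤ :=
  c.normalizer_ne_top (hA.ne_bot c) (hA.ne_top c)

theorem mem_of_normalizer (c : Cfg p G) (hA : IsTorus p A) {y : G}
    (hy : y ∈ normalizer (A : Set G)) (ho : (orderOf y).Coprime p) : y ∈ A :=
  (hA.isCompl_of_le c (hA.normalizer_ne_top c) le_normalizer).mem_of_normal c.prime le_rfl hy ho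

theorem le_of_normalizer (c : Cfg p G) (hA : IsTorus p A) {K : Subgroup G}
    (hK : K ≤ normalizer (A : Set G)) (hco : (Nat.card ↥K).Coprime p) : K ≤ A :=
  (hA.isCompl_of_le c (hA.normalizer_ne_top c) le_normalizer).le_of_normal c.prime le_rfl hK hco

theorem conj (c : Cfg p G) (hA : IsTorus p A) (g : G) :
    IsTorus p (A.map (MulAut.conj g).toMonoidHom) := by
  obtain ⟨r, hr, hrp, hd, R, hC, hRA⟩ := hA.exists_sylow_le c
  haveI : Fact r.Prime := ⟨hr⟩
  refine ⟨r, hr, hrp, hd, g • R, ?_⟩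
  have hR : ((g • R : Sylow r G) : Subgroup G) = (R : Subgroup G).map (MulAut.conj g).toMonoidHom :=
    rfl
  have hcent : centralizer (((g • R : Sylow r G) : Subgroup G) : Set G) =
      (centralizer ((R : Subgroup G) : Set G)).map (MulAut.conj g).toMonoidHom := by
    rw [hR]
    ext x
    rw [mem_conj_map, mem_centralizer_iff, mem_centralizer_iff]
    constructor
    · intro h a ha
      have := h (g * a * g⁻¹) ⟨a, ha, rfl⟩
      calc a * (g⁻¹ * x * g) = g⁻¹ * (g * a * g⁻¹ * x) * g := by group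
        _ = _ := by rw [this]; group
    · rintro h _ ⟨a, ha, rfl⟩
      show g * a * g⁻¹ * x = x * (g * a * g⁻¹)
      calc g * a * g⁻¹ * x = g * (a * (g⁻¹ * x * g)) * g⁻¹ := by group
        _ = _ := by rw [h a ha]; group
  rw [hcent]
  refine ⟨Subgroup.map_mono hC.1, (card_conj_map A g).symm ▸ hC.2.1, ?_⟩
  rw [card_conj_map, card_conj_map]
  exact hC.2.2

/-- A torus contains a full Sylow subgroup for each of its primes, around any element. -/
theorem exists_sylow_mem (c : Cfg p G) (hA : IsTorus p A) {a : G} {s : ℕ} (hs : s.Prime)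
    (ha : a ∈ A) (has : orderOf a = s) :
    s ≠ p ∧ s ∣ Nat.card G ∧ ∃ S : Sylow s G, a ∈ (S : Subgroup G) ∧ (S : Subgroup G) ≤ A ∧
      IsCompl p A (centralizer ((S : Subgroup G) : Set G)) := by
  haveI : Fact s.Prime := ⟨hs⟩
  have hsp : s ≠ p := fun e => by
    have h := hA.coprime.coprime_dvd_left (Subgroup.orderOf_dvd_natCard A ha)
    rw [has, e, Nat.coprime_self] at h
    exact c.prime.ne_one h
  have hd : s ∣ Nat.card G := has ▸ orderOf_dvd_natCard a
  have ha1 : a ≠ 1 := fun e => hs.ne_one (by rw [← has, e, orderOf_one])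
  obtain ⟨S, hS⟩ := (IsPGroup.of_card (n := 1) (G := ↥(zpowers a))
    (by rw [Nat.card_zpowers, has, pow_one])).exists_le_sylow
  have haS : a ∈ (S : Subgroup G) := hS (mem_zpowers a)
  have hco := c.coprime_of_isPGroup hs hsp S.2
  have hSa : (S : Subgroup G) ≤ centralizer ({a} : Set G) := fun x hx =>
    mem_centralizer_singleton_iff.mpr (c.commute hco hx haS)
  obtain ⟨g, hg, hgA⟩ := c.le_conj_of_le (c.centralizer_ne_top ha1) (hA.isCompl_centralizer c ha ha1)
    hSa hco
  have haS' : a ∈ ((g • S : Sylow s G) : Subgroup G) := by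
    show a ∈ (S : Subgroup G).map (MulAut.conj g).toMonoidHom
    rw [mem_conj_map, mul_assoc, ← mem_centralizer_singleton_iff.mp hg, inv_mul_cancel_left]
    exact haS
  refine ⟨hsp, hd, g • S, haS', hgA, ?_⟩
  refine (hA.isCompl_centralizer c ha ha1).of_between c.prime (c.le_centralizer hA.coprime hgA) ?_
  intro x hx
  exact mem_centralizer_singleton_iff.mpr (mem_centralizer_iff.mp hx a haS').symm

/-- No nontrivial element of a torus is central in its normalizer. -/
theorem eq_one_of_commute (c : Cfg p G) (hA : IsTorus p A) {a : G} (ha : a ∈ A)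
    (hc : ∀ g ∈ normalizer (A : Set G), g * a = a * g) : a = 1 := by
  by_contra ha1
  obtain ⟨s, hs, hsd⟩ := Nat.exists_prime_and_dvd (mt orderOf_eq_one_iff.mp ha1)
  set b := a ^ (orderOf a / s) with hb
  have hbo : orderOf b = s := orderOf_pow_orderOf_div (orderOf_pos a).ne' hsd
  obtain ⟨-, -, S, hbS, hSA, hC⟩ := hA.exists_sylow_mem c hs (pow_mem ha _) hbo
  haveI : Fact s.Prime := ⟨hs⟩
  have hab : IsMulCommutative ↥(S : Subgroup G) :=
    (c.hyp _ (hA.coprime.coprime_dvd_left (Subgroup.card_dvd_of_le hSA))).1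
  have hb1 : b = 1 := by
    refine c.eq_one_of_commute_normalizer S hab hbS fun g hg => ?_
    have hgC : g ∈ normalizer (centralizer ((S : Subgroup G) : Set G) : Set G) :=
      normalizer_le_normalizer_cent _ hg
    have hX : centralizer ((S : Subgroup G) : Set G) ≠ ⊤ := fun e =>
      c.centralizer_ne_top (x := b) (fun e1 => hs.ne_one (by rw [← hbo, e1, orderOf_one]))
        (top_le_iff.mp (e ▸ centralizer_le (Set.singleton_subset_iff.mpr hbS)))
    obtain ⟨d, hd, hdA⟩ := c.isCompl_conj hX (conj_isCompl hC hgC) hC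
    rw [conj_map_conj_map] at hdA
    have h1 : d * g ∈ normalizer (A : Set G) := mem_normalizer_iff_map_conj_eq.mpr hdA
    have h2 : d * g * b = b * (d * g) := (Commute.pow_right (hc _ h1) _).eq
    have h3 : b * d = d * b := mem_centralizer_iff.mp hd b hbS
    have h4 : d * (g * b) = d * (b * g) := by rw [← mul_assoc, h2, ← mul_assoc, h3, mul_assoc]
    exact mul_left_cancel h4
  rw [hb1, orderOf_one] at hbo
  exact hs.ne_one hbo.symm

/-- The elements of order dividing `r` of the Sylow subgroup of a torus form a group of rank at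
least three. -/
theorem three_le_rank (c : Cfg p G) {r : ℕ} [Fact r.Prime] (hrp : r ≠ p) (hd : r ∣ Nat.card G)
    (R : Sylow r G) {E : Subgroup G} (hE : ∀ x : G, x ∈ E ↔ x ∈ (R : Subgroup G) ∧ x ^ r = 1) :
    r ^ 3 ≤ Nat.card ↥E := by
  haveI : Fact p.Prime := ⟨c.prime⟩
  have hr : r.Prime := Fact.out
  have hlt : r < p := pow_pred_eq_one_of_prime c hr hrp hd
  have hRco := c.coprime_of_isPGroup hr hrp R.2
  have hER : E ≤ (R : Subgroup G) := fun x hx => ((hE x).mp hx).1
  set N := normalizer ((R : Subgroup G) : Set G)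
  -- some `p`-element of `N(R)` moves `R`
  obtain ⟨g, hgN, ⟨k, hgk⟩, x, hxR, hgx⟩ : ∃ g ∈ N, (∃ k, g ^ p ^ k = 1) ∧
      ∃ x ∈ (R : Subgroup G), g * x ≠ x * g := by
    by_contra hcon
    push Not at hcon
    obtain ⟨⟨x, hxR⟩, hx1⟩ := Subgroup.ne_bot_iff_exists_ne_one.mp (R.ne_bot_of_dvd_card hd)
    refine hx1 (Subtype.ext (c.eq_one_of_commute_normalizer R (c.hyp _ hRco).1 hxR fun g hg => ?_))
    obtain ⟨u, v, rfl, hu, hv, ⟨k, hk⟩, hvo⟩ := Transfer.exists_pPart_mul (p := p) g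
    have huN : u ∈ N := zpowers_le.mpr hg hu
    have hvN : v ∈ N := zpowers_le.mpr hg hv
    have h1 : u * x = x * u := hcon u huN ⟨k, by rw [← hk, pow_orderOf_eq_one]⟩ x hxR
    have h2 : v * x = x * v := c.commute
      (coprime_card_sup (zpowers_le.mpr hvN) hRco (by rwa [Nat.card_zpowers]))
      (mem_sup_right (mem_zpowers v)) (mem_sup_left hxR)
    rw [mul_assoc, h2, ← mul_assoc, h1, mul_assoc]
  -- it moves an element of order `r`
  have hmove : ∃ y ∈ E, g * y ≠ y * g := by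
    by_contra hcon
    push Not at hcon
    apply hgx
    suffices h : ∀ n : ℕ, ∀ y ∈ (R : Subgroup G), y ^ r ^ n = 1 → g * y = y * g by
      obtain ⟨n, hn⟩ := IsPGroup.iff_card.mp R.2
      exact h n x hxR (by
        rw [← hn]; exact orderOf_dvd_iff_pow_eq_one.mp (Subgroup.orderOf_dvd_natCard _ hxR))
    intro n
    induction n with
    | zero => intro y _ hy; rw [pow_zero, pow_one] at hy; rw [hy, mul_one, one_mul]
    | succ n ih =>
      intro y hy hyn
      set z := g * y * g⁻¹ * y⁻¹ with hz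
      have hgy : g * y * g⁻¹ ∈ (R : Subgroup G) := (mem_normalizer_iff.mp hgN y).mp hy
      have hzR : z ∈ (R : Subgroup G) := mul_mem hgy (inv_mem hy)
      have hfix : g * y ^ r = y ^ r * g :=
        ih _ (pow_mem hy r) (by rw [← pow_mul, ← pow_succ', hyn])
      have hzr : z ^ r = 1 := by
        rw [hz, (show Commute (g * y * g⁻¹) y⁻¹ from c.commute hRco hgy (inv_mem hy)).mul_pow,
          conj_pow, hfix, inv_pow]
        group
      have hgz : g * z = z * g := hcon z ((hE z).mpr ⟨hzR, hzr⟩)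
      have hit : ∀ m : ℕ, g ^ m * y * (g ^ m)⁻¹ = z ^ m * y := by
        intro m
        induction m with
        | zero => simp
        | succ m ihm =>
          calc g ^ (m + 1) * y * (g ^ (m + 1))⁻¹ = g * (g ^ m * y * (g ^ m)⁻¹) * g⁻¹ := by
                rw [pow_succ']; group
            _ = g * z ^ m * y * g⁻¹ := by rw [ihm]; group
            _ = z ^ m * g * y * g⁻¹ := by rw [(Commute.pow_right hgz m).eq]
            _ = z ^ m * (g * y * g⁻¹ * y⁻¹) * y := by group
            _ = z ^ (m + 1) * y := by rw [← hz, pow_succ]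
      have hzk : z ^ p ^ k = 1 := by
        have := hit (p ^ k)
        rw [hgk, one_mul, inv_one, mul_one] at this
        exact mul_right_cancel (b := y) (by rw [← this, one_mul])
      have hz1 : z = 1 := by
        refine orderOf_eq_one_iff.mp (Nat.eq_one_of_dvd_coprimes
          (((Nat.coprime_primes hr c.prime).mpr hrp).pow_right k)
          (orderOf_dvd_of_pow_eq_one hzr) (orderOf_dvd_of_pow_eq_one hzk))
      calc g * y = z * y * g := by rw [hz]; group
        _ = y * g := by rw [hz1, one_mul]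
  obtain ⟨y, hyE, hgy⟩ := hmove
  -- orbits on `E`
  have hEN : zpowers g ≤ normalizer (E : Set G) := zpowers_le.mpr (mem_normalizer_iff.mpr fun z => by
    rw [hE, hE, conj_pow, mem_normalizer_iff.mp hgN z, conj_eq_one_iff])
  let act : MulAction ↥(zpowers g) ↥E :=
    MulAction.compHom _ ((Subgroup.normalizerMonoidHom E).comp (Subgroup.inclusion hEN))
  have hsmul : ∀ (h : ↥(zpowers g)) (z : ↥E), ((h • z : ↥E) : G) = h * z * (h : G)⁻¹ :=
    fun h z => rfl
  have hpg : IsPGroup p ↥(zpowers g) := by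
    obtain ⟨j, -, hj⟩ := (Nat.dvd_prime_pow c.prime).mp (orderOf_dvd_of_pow_eq_one hgk)
    exact IsPGroup.of_card (n := j) (by rw [Nat.card_zpowers, hj])
  have hmod := hpg.card_modEq_card_fixedPoints ↥E
  have hfix : Nat.card ↥(MulAction.fixedPoints ↥(zpowers g) ↥E) =
      Nat.card ↥(E ⊓ centralizer ({g} : Set G)) := by
    refine Nat.card_congr
      { toFun := fun z => ⟨((z : ↥E) : G), (z : ↥E).2, mem_centralizer_singleton_iff.mpr ?_⟩
        invFun := fun z => ⟨⟨z, z.2.1⟩, fun h => Subtype.ext ?_⟩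
        left_inv := fun _ => rfl
        right_inv := fun _ => rfl }
    · have h := congrArg Subtype.val (z.2 ⟨g, mem_zpowers g⟩)
      rw [hsmul] at h
      exact (mul_inv_eq_iff_eq_mul.mp h).symm
    · rw [hsmul]
      obtain ⟨i, hi⟩ := mem_zpowers_iff.mp h.2
      have hc : Commute (h : G) (z : G) :=
        hi ▸ Commute.zpow_left (mem_centralizer_singleton_iff.mp z.2.2).symm i
      show (h : G) * z * (h : G)⁻¹ = z
      rw [hc.eq, mul_inv_cancel_right]
  rw [hfix] at hmod
  set F := E ⊓ centralizer ({g} : Set G)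
  have hEp : IsPGroup r ↥E := R.2.to_le hER
  obtain ⟨i, hi⟩ := IsPGroup.iff_card.mp hEp
  obtain ⟨j, hj⟩ := IsPGroup.iff_card.mp (hEp.to_le (inf_le_left : F ≤ E))
  have hne : F ≠ E := fun e => hgy (mem_centralizer_singleton_iff.mp (e.ge hyE).2).symm
  have hji : j < i := by
    have h1 := Subgroup.card_dvd_of_le (inf_le_left : F ≤ E)
    rw [hi, hj, Nat.pow_dvd_pow_iff_le_right hr.one_lt] at h1
    refine lt_of_le_of_ne h1 fun e => hne (eq_of_le_of_card_ge inf_le_left ?_)
    rw [hi, hj, e]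
  rw [hi, hj] at hmod
  rw [hi]
  by_contra hlt'
  have hi3 : i < 3 := (Nat.pow_lt_pow_iff_right hr.one_lt).mp (not_le.mp hlt')
  have hdvd : p ∣ r ^ i - r ^ j :=
    (Nat.modEq_iff_dvd' (Nat.pow_le_pow_right hr.pos hji.le)).mp hmod.symm
  have hr2 := hr.two_le
  have h5 := c.five_le
  have h1 : ¬ p ∣ r - 1 := fun h => by have := Nat.le_of_dvd (by omega) h; omega
  have h2 : ¬ p ∣ r := fun h => hrp ((Nat.prime_dvd_prime_iff_eq c.prime hr).mp h).symm
  have h3 : ¬ p ∣ r + 1 := fun h => by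
    have hle := Nat.le_of_dvd (by omega) h
    have he : p = r + 1 := by omega
    rcases hr.eq_two_or_odd' with rfl | ho
    · omega
    · obtain ⟨t, rfl⟩ := ho
      have : 2 ∣ p := ⟨t + 1, by omega⟩
      have := (Nat.prime_dvd_prime_iff_eq Nat.prime_two c.prime).mp this
      omega
  have hfac : r ^ 2 - 1 = (r + 1) * (r - 1) := by simpa using Nat.sq_sub_sq r 1
  interval_cases i <;> interval_cases j
  · exact h1 (by simpa using hdvd)
  · rw [pow_zero, hfac] at hdvd
    exact ((Nat.Prime.dvd_mul c.prime).mp hdvd).elim h3 h1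
  · have : r ^ 2 - r ^ 1 = r * (r - 1) := by
      rw [pow_one, sq, Nat.mul_sub, mul_one]
    rw [this] at hdvd
    exact ((Nat.Prime.dvd_mul c.prime).mp hdvd).elim h2 h1

/-- A `p`-subgroup normalized by a torus has its centralizer of `b ∈ A#` inside `O_p(C(b))`. -/
theorem inf_le_Op (c : Cfg p G) (hA : IsTorus p A) {U : Subgroup G} (hU : IsPGroup p ↥U)
    (hAU : A ≤ normalizer (U : Set G)) {b : G} (hb : b ∈ A) (hb1 : b ≠ 1) :
    U ⊓ centralizer ({b} : Set G) ≤ Op p (centralizer ({b} : Set G)) := by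
  set X := centralizer ({b} : Set G) with hX
  have hXt : X ≠ ⊤ := c.centralizer_ne_top hb1
  have hC := hA.isCompl_centralizer c hb hb1
  have hn := c.le_normalizer_sup hXt hC
  haveI : Fact p.Prime := ⟨c.prime⟩
  intro u hu
  obtain ⟨huU, huX⟩ := hu
  have hpow : ∀ v ∈ U, ∃ k, v ^ p ^ k = 1 := fun v hv => by
    obtain ⟨k, hk⟩ := hU ⟨v, hv⟩
    exact ⟨k, congrArg Subtype.val hk⟩
  obtain ⟨k, hk⟩ := hpow u huU
  refine c.mem_op_of_pElement hC (c.cent_mod hXt hC huX fun a ha => ?_) hk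
  have h1 : u * a * u⁻¹ * a⁻¹ ∈ Op p X ⊔ A :=
    mul_mem ((mem_normalizer_iff.mp (hn huX) a).mp (mem_sup_right ha))
      (mem_sup_right (inv_mem ha))
  have h2 : u * a * u⁻¹ * a⁻¹ ∈ U := by
    have := (mem_normalizer_iff.mp (hAU ha) u⁻¹).mp (inv_mem huU)
    have h3 := U.mul_mem huU this
    simpa [mul_assoc] using h3
  obtain ⟨k', hk'⟩ := hpow _ h2
  exact c.mem_op_of_pElement hC h1 hk'

/-- The largest `p`-subgroup normalized by a torus. -/
theorem exists_greatest (c : Cfg p G) (hA : IsTorus p A) :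
    ∃ W : Subgroup G, IsPGroup p ↥W ∧ A ≤ normalizer (W : Set G) ∧
      ∀ U : Subgroup G, IsPGroup p ↥U → A ≤ normalizer (U : Set G) → U ≤ W := by
  haveI : Fact p.Prime := ⟨c.prime⟩
  obtain ⟨r, hr, hrp, hd, R, hC, hRA⟩ := hA.exists_sylow_le c
  haveI : Fact r.Prime := ⟨hr⟩
  let E : Subgroup G :=
    { carrier := {x | x ∈ (R : Subgroup G) ∧ x ^ r = 1}
      one_mem' := ⟨one_mem _, one_pow r⟩
      mul_mem' := fun {x y} hx hy => ⟨mul_mem hx.1 hy.1, by
        rw [(show Commute x y from c.commute hA.coprime (hRA hx.1) (hRA hy.1)).mul_pow, hx.2, hy.2,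
          one_mul]⟩
      inv_mem' := fun {x} hx => ⟨inv_mem hx.1, by rw [inv_pow, hx.2, inv_one]⟩ }
  have hE : ∀ x : G, x ∈ E ↔ x ∈ (R : Subgroup G) ∧ x ^ r = 1 := fun x => Iff.rfl
  have hEA : E ≤ A := fun x hx => hRA hx.1
  have hEe : Cfsg.IsElementaryAbelian r E :=
    ⟨⟨⟨fun x y => Subtype.ext (c.commute hA.coprime (hEA x.2) (hEA y.2))⟩⟩, fun x hx => hx.2⟩
  have hE3 := three_le_rank c hrp hd R hE
  let θ : G → Subgroup G := fun e => Op p (centralizer ({e} : Set G))
  have hrU : ∀ U : Subgroup G, IsPGroup p ↥U → ¬ r ∣ Nat.card ↥U := fun U hU h => by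
    obtain ⟨k, hk⟩ := IsPGroup.iff_card.mp hU
    rw [hk] at h
    exact hrp ((Nat.prime_dvd_prime_iff_eq hr c.prime).mp (hr.dvd_of_dvd_pow h))
  have hsolU : ∀ U : Subgroup G, IsPGroup p ↥U → Group.IsSolvable ↥U := fun U hU => by
    haveI := hU.isNilpotent
    infer_instance
  have hAθ : ∀ e ∈ A, A ≤ normalizer (θ e : Set G) := fun e he a ha =>
    le_normalizer_Op _ (mem_centralizer_singleton_iff.mpr (c.commute hA.coprime ha he))
  have hθ : Cfsg.IsSolvableSignalizerFunctor r E θ := by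
    refine ⟨⟨fun a _ _ => Op_le _, fun a _ _ => hrU _ (isPGroup_Op _), fun a ha _ b hb x hx => ?_,
      fun a ha _ b hb hb1 => hA.inf_le_Op c (isPGroup_Op _) (hAθ a (hEA ha)) (hEA hb) hb1⟩,
      fun a _ _ => hsolU _ (isPGroup_Op _)⟩
    exact (mem_normalizer_iff.mp (hAθ a (hEA ha) (hEA hb)) x).mp hx
  have hmem : ∀ U : Subgroup G, IsPGroup p ↥U → A ≤ normalizer (U : Set G) →
      U ∈ Cfsg.signalizerFamily r E θ := fun U hU hAU =>
    ⟨hsolU U hU, hrU U hU, fun b hb u hu => (mem_normalizer_iff.mp (hAU (hEA hb)) u).mp hu,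
      fun a ha ha1 => hA.inf_le_Op c hU hAU (hEA ha) ha1⟩
  obtain ⟨e₀, he₀, he₀1⟩ : ∃ e ∈ E, e ≠ 1 := by
    by_contra hcon
    push Not at hcon
    exact Signalizer.ne_bot_of_pow_le three_ne_zero hE3 ((Subgroup.eq_bot_iff_forall E).2 hcon)
  obtain ⟨W, hW, hmax⟩ := Signalizer.exists_greatest_member (q := p) hEe hE3 hθ
    ((isPGroup_Op _).to_le (Signalizer.signalizerInf_le he₀ he₀1))
  refine ⟨W, hW.2.1, ?_, fun U hU hAU => hmax U (hmem U hU hAU) hU⟩
  intro a ha
  have hle : W.map (MulAut.conj a).toMonoidHom ≤ W := by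
    refine hmax _ ?_ (hW.2.1.map _)
    obtain ⟨hs, hr', hinv, hcb⟩ := hW.1
    refine ⟨hsolU _ (hW.2.1.map _), hrU _ (hW.2.1.map _), ?_, ?_⟩
    · rintro b hb _ ⟨w, hw, rfl⟩
      refine ⟨b * w * b⁻¹, hinv b hb w hw, ?_⟩
      have h1 : a * b = b * a := c.commute hA.coprime ha (hEA hb)
      show a * (b * w * b⁻¹) * a⁻¹ = b * (a * w * a⁻¹) * b⁻¹
      calc a * (b * w * b⁻¹) * a⁻¹ = (a * b) * w * (a * b)⁻¹ := by group
        _ = _ := by rw [h1]; group
    · rintro b hb hb1 _ ⟨⟨w, hw, rfl⟩, hwb⟩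
      have h1 : a * b = b * a := c.commute hA.coprime ha (hEA hb)
      have hwb' : w ∈ centralizer ({b} : Set G) := by
        refine mem_centralizer_singleton_iff.mpr ?_
        have h2 : a * w * a⁻¹ * b = b * (a * w * a⁻¹) := mem_centralizer_singleton_iff.mp hwb
        calc w * b = a⁻¹ * (a * w * a⁻¹ * (a * b * a⁻¹)) * a := by group
          _ = a⁻¹ * (a * w * a⁻¹ * b) * a := by rw [h1]; group
          _ = a⁻¹ * (b * (a * w * a⁻¹)) * a := by rw [h2]
          _ = a⁻¹ * (b * a) * w := by group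
          _ = _ := by rw [← h1]; group
      exact (mem_normalizer_iff.mp (hAθ b (hEA hb) ha) w).mp (hcb b hb hb1 ⟨hw, hwb'⟩)
  exact mem_normalizer_iff_map_conj_eq.mpr
    (eq_of_le_of_card_ge hle (card_conj_map W a).ge)

end IsTorus

end Cfsg.Agent.AbelianPPrime
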