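/-
The normalizer of a torus: it contains the centralizers of the nontrivial elements of the torus.

Main results: `IsTorus.cent_le`, `IsTorus.mem_normalizer_of_inter`, `IsTorus.local_le`,
`IsTorus.not_normalizer_sylow_le`.
-/
import Cfsg.Agent.Lib.AbelianPPrime.Torus
import Cfsg.Agent.Lib.PLocal.ZJControl
import Cfsg.Agent.Lib.PSL2.Soluble
import Cfsg.Agent.Lib.Frobenius.Complement
import Cfsg.Agent.S1242

set_option autoImplicit false

namespace Cfsg.Agent.AbelianPPrime

open Subgroup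
open scoped Pointwise commutatorElement

universe u

variable {G : Type u} [Group G] [Finite G] {p : ℕ}

omit [Finite G] in
theorem conj_map_eq {H : Subgroup G} {g : G} (hg : g ∈ normalizer (H : Set G)) :
    H.map (MulAut.conj g).toMonoidHom = H :=
  mem_normalizer_iff_map_conj_eq.mp hg

theorem normalizer_le_normalizer_Z [Fact p.Prime] (R : Subgroup G) :
    normalizer (R : Set G) ≤ normalizer (Cfsg.centerThompsonOf p R : Set G) := fun g hg => by
  rw [mem_normalizer_iff_map_conj_eq] at hg ⊢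
  have h := PLocal.map_centerThompsonOf (p := p) (MulAut.conj g).toMonoidHom (H := R)
    (MulAut.conj g).injective.injOn
  rw [show R.map (MulAut.conj g).toMonoidHom = R from hg] at h
  exact h

theorem Z_ne_bot [Fact p.Prime] {R : Subgroup G} (hR : IsPGroup p ↥R) (hne : R ≠ ⊥) :
    Cfsg.centerThompsonOf p R ≠ ⊥ := by
  obtain ⟨z, hz, hz1, hzp⟩ := PLocal.exists_central_of_order_p hR hne
  exact fun e => hz1 (mem_bot.1 (e.le (PLocal.central_le_centerThompsonOf hz hzp)))

theorem Z_le [Fact p.Prime] (R : Subgroup G) : Cfsg.centerThompsonOf p R ≤ R :=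
  inf_le_left.trans (map_subtype_le _)

omit [Finite G] in
/-- A `p`-element fixes modulo `N` an element whose orbit meets fewer than `p` cosets. -/
theorem fix_of_small [Fact p.Prime] {N F : Subgroup G} [Finite ↥F] (hF : Nat.card ↥F < p) {g a : G}
    (hg : g ∈ normalizer (N : Set G)) {k : ℕ} (hgk : g ^ p ^ k = 1)
    (horb : ∀ i : ℕ, ∃ f ∈ F, ∃ e ∈ N, g ^ i * a * (g ^ i)⁻¹ = f * e) :
    a⁻¹ * g * a * g⁻¹ ∈ N := by
  choose f hf e he hfe using horb
  haveI := Fintype.ofFinite ↥F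
  obtain ⟨i, j, hij, hFij⟩ := Fintype.exists_ne_map_eq_of_card_lt
    (f := fun i : Fin p => (⟨f i, hf i⟩ : ↥F))
    (by rwa [Fintype.card_fin, ← Nat.card_eq_fintype_card])
  wlog hlt : (i : ℕ) < j generalizing i j
  · exact this j i hij.symm hFij.symm
      (lt_of_le_of_ne (not_lt.mp hlt) fun h => hij (Fin.ext h.symm))
  have hfij : f i = f j := congrArg Subtype.val hFij
  have h1 : (g ^ (i : ℕ) * a * (g ^ (i : ℕ))⁻¹)⁻¹ * (g ^ (j : ℕ) * a * (g ^ (j : ℕ))⁻¹) ∈ N := by
    rw [hfe, hfe, hfij, show (f j * e i)⁻¹ * (f j * e j) = (e i)⁻¹ * e j by group]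
    exact mul_mem (inv_mem (he _)) (he _)
  obtain ⟨d, hd⟩ : ∃ d, (j : ℕ) = i + d := ⟨j - i, by omega⟩
  have h2 : a⁻¹ * g ^ d * a * (g ^ d)⁻¹ ∈ N := by
    have h3 := (mem_normalizer_iff.mp (inv_mem (pow_mem hg (i : ℕ))) _).mp h1
    rw [hd, pow_add] at h3
    convert h3 using 1
    group
  let St : Subgroup G :=
    { carrier := {h | h ∈ normalizer (N : Set G) ∧ a⁻¹ * h * a * h⁻¹ ∈ N}
      one_mem' := ⟨one_mem _, by simp⟩
      mul_mem' := fun {x y} hx hy => ⟨mul_mem hx.1 hy.1, by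
        rw [show a⁻¹ * (x * y) * a * (x * y)⁻¹ =
          a⁻¹ * x * a * x⁻¹ * (x * (a⁻¹ * y * a * y⁻¹) * x⁻¹) by group]
        exact mul_mem hx.2 ((mem_normalizer_iff.mp hx.1 _).mp hy.2)⟩
      inv_mem' := fun {x} hx => ⟨inv_mem hx.1, by
        rw [show a⁻¹ * x⁻¹ * a * x⁻¹⁻¹ = (x⁻¹ * (a⁻¹ * x * a * x⁻¹) * x⁻¹⁻¹)⁻¹ by group]
        exact inv_mem ((mem_normalizer_iff.mp (inv_mem hx.1) _).mp hx.2)⟩ }
  have hdS : g ^ d ∈ St := ⟨pow_mem hg d, h2⟩
  have hco : d.Coprime (orderOf g) := by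
    refine Nat.Coprime.coprime_dvd_right (orderOf_dvd_of_pow_eq_one hgk) (Nat.Coprime.pow_right k ?_)
    refine ((Fact.out : p.Prime).coprime_iff_not_dvd.mpr fun h => ?_).symm
    have := Nat.le_of_dvd (by omega) h
    have := j.isLt
    omega
  obtain ⟨m, hm⟩ := exists_pow_eq_self_of_coprime hco
  exact (hm ▸ pow_mem hdS m : g ∈ St).2

/-- A commutative subgroup that is not cyclic has an elementary subgroup of order `s ^ 2`. -/
theorem exists_elem_of_not_cyclic {F : Subgroup G} (hc : IsMulCommutative ↥F) (h : ¬ IsCyclic ↥F) :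
    ∃ s : ℕ, s.Prime ∧ ∃ F₀ ≤ F, Cfsg.IsElementaryAbelian s F₀ ∧ Nat.card ↥F₀ = s ^ 2 := by
  by_contra hcon
  push Not at hcon
  refine h ?_
  let _ : CommGroup ↥F :=
    { (inferInstance : Group ↥F) with mul_comm := fun a b => hc.1.1 a b }
  refine Frobenius.SmallCyclic.isCyclic_of_comm fun r q hr hq B hB => ?_
  haveI : Fact r.Prime := ⟨hr⟩
  haveI : Fact q.Prime := ⟨hq⟩
  by_cases hrq : r = q
  · subst hrq
    by_contra hB'
    refine hcon r hr (B.map F.subtype) (map_subtype_le _) ⟨⟨⟨?_⟩⟩, ?_⟩ ?_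
    · rintro ⟨_, a, -, rfl⟩ ⟨_, b, -, rfl⟩
      exact Subtype.ext (congrArg (fun w : ↥F => (w : G)) (hc.1.1 a b))
    · rintro _ ⟨a, ha, rfl⟩
      have h1 : orderOf (⟨a, ha⟩ : ↥B) ∣ r * r := hB ▸ orderOf_dvd_natCard _
      rw [← sq] at h1
      obtain ⟨i, hi, hio⟩ := (Nat.dvd_prime_pow hr).mp h1
      have hi2 : i ≠ 2 := fun e => hB' (isCyclic_of_orderOf_eq_card (⟨a, ha⟩ : ↥B)
        (by rw [hio, e, hB, sq]))
      have h3 : (⟨a, ha⟩ : ↥B) ^ r = 1 := by
        refine orderOf_dvd_iff_pow_eq_one.mp ?_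
        rw [hio]
        calc r ^ i ∣ r ^ 1 := Nat.pow_dvd_pow r (by omega)
          _ = r := pow_one r
      exact congrArg (fun w : ↥B => ((w : ↥F) : G)) h3
    · rw [Cores.card_map_subtype, hB, sq]
  · obtain ⟨x, hx⟩ := exists_prime_orderOf_dvd_card' (G := ↥B) r (hB ▸ dvd_mul_right r q)
    obtain ⟨y, hy⟩ := exists_prime_orderOf_dvd_card' (G := ↥B) q (hB ▸ dvd_mul_left q r)
    have hxy : Commute x y := Subtype.ext (mul_comm (x : ↥F) (y : ↥F))
    refine isCyclic_of_orderOf_eq_card (x * y) ?_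
    rw [hxy.orderOf_mul_eq_mul_orderOf_of_coprime (by rw [hx, hy]; exact (Nat.coprime_primes hr hq).mpr hrq),
      hx, hy, hB]

namespace Cfg

variable (c : Cfg p G)
include c

theorem card_lt_of_cyclic {F : Subgroup G} (hco : (Nat.card ↥F).Coprime p) (h : IsCyclic ↥F) :
    Nat.card ↥F < p := by
  obtain ⟨x, hx⟩ := h.exists_generator
  have h1 : Nat.card ↥F = orderOf x := (orderOf_eq_card_of_forall_mem_zpowers hx).symm
  have h2 : x ^ (p - 1) = 1 := Subtype.ext ((c.hyp F hco).2 x x.2)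
  have h5 := c.five_le
  have := Nat.le_of_dvd (by omega) (h1 ▸ orderOf_dvd_of_pow_eq_one h2)
  omega

/-- If the complements are cyclic, the `p`-elements lie in `O_p(L)`. -/
theorem mem_op_of_cyclic [Fact p.Prime] {L H : Subgroup G} (hLt : L ≠ ⊤) (hH : IsCompl p H L)
    (hcyc : IsCyclic ↥H) {x : G} (hx : x ∈ L) {k : ℕ} (hk : x ^ p ^ k = 1) : x ∈ Op p L := by
  refine c.mem_op_of_pElement hH (c.cent_mod hLt hH hx fun a ha => ?_) hk
  have h1 := fix_of_small (F := H) (N := Op p L) (a := a) (c.card_lt_of_cyclic hH.2.1 hcyc)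
    (le_normalizer_Op L hx) hk (fun i => by
      have hmem : x ^ i * a * (x ^ i)⁻¹ ∈ ((Op p L ⊔ H : Subgroup G) : Set G) :=
        (mem_normalizer_iff.mp (c.le_normalizer_sup hLt hH (pow_mem hx i)) a).mp (mem_sup_right ha)
      rw [sup_comm, coe_mul_of_left_le_normalizer_right H (Op p L)
        (hH.1.trans (le_normalizer_Op L))] at hmem
      obtain ⟨f, hf, e, he, hfe⟩ := hmem
      exact ⟨f, hf, e, he, hfe.symm⟩)
  have h2 := (mem_normalizer_iff.mp (le_normalizer_Op L (hH.1 ha)) _).mp h1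
  simpa [mul_assoc] using h2

theorem sl2free : PLocal.SL2Free p G := by
  haveI : Fact p.Prime := ⟨c.prime⟩
  haveI := c.simple
  have h5 := c.five_le
  rintro ⟨H, K, hK, ⟨e⟩⟩
  let f : ↥H →* Matrix.SpecialLinearGroup (Fin 2) (ZMod p) :=
    e.toMonoidHom.comp (QuotientGroup.mk' _)
  have hf : Function.Surjective f := e.surjective.comp (QuotientGroup.mk'_surjective _)
  have hns : ¬ Group.IsSolvable (Matrix.SpecialLinearGroup (Fin 2) (ZMod p)) := fun hs => by
    haveI := hs
    refine PSL2.not_isSolvable_psl (L := ZMod p) (by rw [Nat.card_zmod]; omega) ?_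
    exact Group.isSolvable_of_surjective (QuotientGroup.mk'_surjective (center
      (Matrix.SpecialLinearGroup (Fin 2) (ZMod p))))
  by_cases hH : H = ⊤
  · subst hH
    let φ : G →* Matrix.SpecialLinearGroup (Fin 2) (ZMod p) := f.comp topEquiv.symm.toMonoidHom
    have hφ : Function.Surjective φ := hf.comp topEquiv.symm.surjective
    rcases Subgroup.Normal.eq_bot_or_eq_top (inferInstance : φ.ker.Normal) with h | h
    · have hinj : Function.Injective φ := (MonoidHom.ker_eq_bot_iff φ).mp h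
      haveI : Fact (2 < p) := ⟨by omega⟩
      obtain ⟨z, hz⟩ := hφ (-1)
      have hzc : z ∈ center G := mem_center_iff.mpr fun y => hinj (by
        rw [map_mul, map_mul, hz]; apply Subtype.ext; simp)
      rcases Subgroup.Normal.eq_bot_or_eq_top (inferInstance : (center G).Normal) with e1 | e1
      · rw [e1, mem_bot] at hzc
        rw [hzc, map_one] at hz
        have h2 := congrArg (fun M : Matrix.SpecialLinearGroup (Fin 2) (ZMod p) => M.1 0 0) hz.symm
        simp at h2
        exact ZMod.neg_one_ne_one h2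
      · exact c.nonabelian ⟨⟨fun a b => mem_center_iff.mp (e1 ▸ mem_top b) a⟩⟩
    · refine hns ?_
      have : Subsingleton (Matrix.SpecialLinearGroup (Fin 2) (ZMod p)) := ⟨fun a b => by
        obtain ⟨x, rfl⟩ := hφ a
        obtain ⟨y, rfl⟩ := hφ b
        rw [MonoidHom.mem_ker.mp (h ▸ mem_top x), MonoidHom.mem_ker.mp (h ▸ mem_top y)]⟩
      infer_instance
  · haveI := c.sol H hH
    exact hns (Group.isSolvable_of_surjective hf)

theorem commutator_eq_top : commutator G = ⊤ := by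
  haveI := c.simple
  refine (Subgroup.Normal.eq_bot_or_eq_top (inferInstance : (commutator G).Normal)).resolve_left
    fun h => c.nonabelian ⟨⟨fun a b => ?_⟩⟩
  have h1 : ⁅a, b⁆ ∈ commutator G := by
    rw [_root_.commutator_def]; exact commutator_mem_commutator (mem_top a) (mem_top b)
  rw [h, mem_bot] at h1
  exact commutatorElement_eq_one_iff_mul_comm.mp h1

/-- `N(Z(J(S)))` has no proper `p`-quotient. -/
theorem eq_top_of_pGroup_quotient [Fact p.Prime] (S : Sylow p G)
    {L : Subgroup G} (hLdef : L = normalizer (Cfsg.centerThompsonOf p (S : Subgroup G) : Set G))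
    (N : Subgroup ↥L) [N.Normal] (hN : IsPGroup p (↥L ⧸ N)) : N = ⊤ := by
  have hSL : (S : Subgroup G) ≤ L :=
    hLdef ▸ le_normalizer.trans (normalizer_le_normalizer_Z _)
  have hidx : Nat.Coprime p L.index := ((Fact.out : p.Prime).coprime_iff_not_dvd).mpr
    fun hd => S.not_dvd_index (hd.trans (Subgroup.index_dvd_of_le hSL))
  have hconj : ∀ g ∈ L, (∃ k, orderOf g = p ^ k) → ∃ l ∈ L, l * g * l⁻¹ ∈ (S : Subgroup G) := by
    rintro g hg ⟨k, hk⟩
    have hp : IsPGroup p ↥(zpowers (⟨g, hg⟩ : ↥L)) :=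
      IsPGroup.of_card (n := k) (by rw [Nat.card_zpowers, ← hk, ← Subgroup.orderOf_coe])
    obtain ⟨T, hT⟩ := hp.exists_le_sylow
    obtain ⟨l, hl⟩ := MulAction.exists_smul_eq ↥L T (S.subtype hSL)
    refine ⟨l, l.2, ?_⟩
    have h1 : MulAut.conj l • (⟨g, hg⟩ : ↥L) ∈ ((l • T : Sylow p ↥L) : Subgroup ↥L) :=
      Subgroup.smul_mem_pointwise_smul _ _ _ (hT (mem_zpowers _))
    rw [hl] at h1
    exact h1
  have hfus : ∀ g ∈ L, (∃ k : ℕ, orderOf g = p ^ k) → ∀ a : G, a * g * a⁻¹ ∈ L →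
      ∃ h ∈ L, h * g * h⁻¹ = a * g * a⁻¹ := by
    intro g hg hk a ha
    obtain ⟨l, hl, hlg⟩ := hconj g hg hk
    have hk' : ∃ k, orderOf (a * g * a⁻¹) = p ^ k := by
      obtain ⟨k, hk⟩ := hk
      exact ⟨k, by rw [← hk]; exact MulEquiv.orderOf_eq (MulAut.conj a) g⟩
    obtain ⟨l', hl', hlg'⟩ := hconj _ ha hk'
    obtain ⟨m, hm, hmq⟩ := PLocal.zj_control (by have := c.five_le; omega) c.sl2free S
      (zpowers (l * g * l⁻¹)) (zpowers_le.mpr hlg) (l' * a * l⁻¹) (by
        rw [MonoidHom.map_zpowers, zpowers_le]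
        have e : (MulAut.conj (l' * a * l⁻¹)).toMonoidHom (l * g * l⁻¹) = l' * (a * g * a⁻¹) * l'⁻¹ := by
          simp [mul_assoc]
        rw [e]; exact hlg')
    rw [← hLdef] at hm
    refine ⟨l'⁻¹ * m * l, mul_mem (mul_mem (inv_mem hl') hm) hl, ?_⟩
    calc l'⁻¹ * m * l * g * (l'⁻¹ * m * l)⁻¹ = l'⁻¹ * (m * (l * g * l⁻¹) * m⁻¹) * l' := by group
      _ = _ := by rw [hmq _ (mem_zpowers _)]; group
  have h := S1242.result L hidx hfus
  rw [c.commutator_eq_top, sup_top_eq, top_inf_eq] at h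
  have h2 : Cfsg.pResidual p ↥L ⊔ commutator ↥L = ⊤ := by
    refine Subgroup.map_injective (subtype_injective L) ?_
    rw [← h, ← MonoidHom.range_eq_map, range_subtype]
  set π := QuotientGroup.mk' N
  have h3 : commutator (↥L ⧸ N) = ⊤ := by
    rw [_root_.commutator_def, ← map_top_of_surjective π (QuotientGroup.mk'_surjective N),
      ← map_commutator, ← _root_.commutator_def]
    refine le_antisymm (Subgroup.map_mono le_top) ?_
    conv_lhs => rw [← h2]
    rw [Subgroup.map_sup, (Subgroup.map_eq_bot_iff _).mpr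
      ((Transfer.pResidual_le hN).trans (QuotientGroup.ker_mk' N).ge), bot_sup_eq]
  by_contra hne
  haveI : Nontrivial (↥L ⧸ N) := QuotientGroup.nontrivial_iff.mpr hne
  haveI := hN.isNilpotent
  exact (IsSolvable.commutator_lt_top_of_nontrivial (↥L ⧸ N)).ne h3

theorem sylow_of_normalizer_le [Fact p.Prime] {M : Subgroup G} (P : Sylow p ↥M)
    (h : normalizer (((P : Subgroup ↥M).map M.subtype : Subgroup G) : Set G) ≤ M) :
    ∃ S : Sylow p G, (S : Subgroup G) = (P : Subgroup ↥M).map M.subtype := by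
  obtain ⟨S, hS⟩ := (P.2.map M.subtype).exists_le_sylow
  refine ⟨S, by_contra fun hne => ?_⟩
  obtain ⟨x, hxS, hxN, hx⟩ := Signalizer.exists_mem_normalizer_not_mem S.2 hS (Ne.symm hne)
  have h1 : (P : Subgroup ↥M) = (S : Subgroup G).subgroupOf M :=
    (P.3 (S.2.comap_subtype) (fun z hz => hS ⟨z, hz, rfl⟩)).symm
  exact hx ⟨⟨x, h hxN⟩, h1 ▸ hxS, rfl⟩

end Cfg

namespace IsTorus

variable {A : Subgroup G}

/-- The normalizer of a torus is the product of the torus and a Sylow `p`-subgroup. -/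
theorem sup_sylow (c : Cfg p G) [Fact p.Prime] (hA : IsTorus p A)
    (P : Sylow p ↥(normalizer (A : Set G))) :
    A.subgroupOf (normalizer (A : Set G)) ⊔ (P : Subgroup ↥(normalizer (A : Set G))) = ⊤ := by
  obtain ⟨-, hco, k, hk⟩ := hA.isCompl_of_le c (hA.normalizer_ne_top c) le_normalizer
  have hP : Nat.card (P : Subgroup ↥(normalizer (A : Set G))) = p ^ k := by
    rw [P.card_eq_multiplicity]
    congr 1
    change (Nat.card ↥(normalizer (A : Set G))).factorization p = k
    rw [hk, Nat.factorization_mul_apply_of_coprime (hco.pow_right k),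
      Nat.Prime.factorization_pow (Fact.out : p.Prime), Finsupp.single_eq_same,
      Nat.factorization_eq_zero_of_not_dvd ((Fact.out : p.Prime).coprime_iff_not_dvd.mp hco.symm),
      zero_add]
  refine eq_top_of_card_eq _ (Nat.dvd_antisymm (card_subgroup_dvd_card _) ?_)
  rw [hk]
  refine (hco.pow_right k).mul_dvd_of_dvd_of_dvd ?_ ?_
  · rw [← Cores.card_subgroupOf (le_normalizer : A ≤ normalizer (A : Set G))]
    exact Subgroup.card_dvd_of_le le_sup_left
  · rw [← hP]; exact Subgroup.card_dvd_of_le le_sup_right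

/-- An element of a torus commuting with a Sylow `p`-subgroup of its normalizer is trivial. -/
theorem eq_one_of_commute_sylow (c : Cfg p G) [Fact p.Prime] (hA : IsTorus p A)
    (P : Sylow p ↥(normalizer (A : Set G))) {a : G} (ha : a ∈ A)
    (hc : ∀ x ∈ (P : Subgroup ↥(normalizer (A : Set G))), (x : G) * a = a * x) : a = 1 := by
  refine hA.eq_one_of_commute c ha fun g hg => ?_
  have hsup := hA.sup_sylow c P
  have hle : A.subgroupOf (normalizer (A : Set G)) ⊔ (P : Subgroup ↥(normalizer (A : Set G))) ≤ (centralizer ({a} : Set G)).subgroupOf (normalizer (A : Set G)) :=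
    sup_le (fun x hx => mem_centralizer_singleton_iff.mpr (c.commute hA.coprime hx ha))
      fun x hx => mem_centralizer_singleton_iff.mpr (hc x hx)
  exact mem_centralizer_singleton_iff.mp (hle (hsup ▸ mem_top (⟨g, hg⟩ : ↥(normalizer (A : Set G)))))

/-- A proper subgroup meeting a torus in a noncyclic group lies in any subgroup containing the
normalizer and the centralizers of the torus. -/
theorem le_of_noncyclic (c : Cfg p G) (hA : IsTorus p A) {M : Subgroup G}
    (hcent : ∀ e ∈ A, e ≠ 1 → centralizer ({e} : Set G) ≤ M)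
    (hNA : normalizer (A : Set G) ≤ M) {L : Subgroup G} (hL : L ≠ ⊤) {s : ℕ} [Fact s.Prime]
    {F : Subgroup G} (hFA : F ≤ A) (hFL : F ≤ L) (hFe : Cfsg.IsElementaryAbelian s F)
    (hF : Nat.card ↥F = s ^ 2) : L ≤ M := by
  have hs : s.Prime := Fact.out
  have hFco := hA.coprime.coprime_dvd_left (Subgroup.card_dvd_of_le hFA)
  have hsp : ¬ s ∣ Nat.card ↥(Op p L) := fun h => by
    haveI : Fact p.Prime := ⟨c.prime⟩
    obtain ⟨k, hk⟩ := IsPGroup.iff_card.mp (isPGroup_Op (p := p) L)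
    rw [hk] at h
    have := (Nat.prime_dvd_prime_iff_eq hs c.prime).mp (hs.dvd_of_dvd_pow h)
    subst this
    rw [hF, Nat.coprime_pow_left_iff (by norm_num), Nat.coprime_self] at hFco
    exact hs.ne_one hFco
  have hO : Op p L ≤ M := Signalizer.le_of_elements hFe hF.ge M (Op p L) hsp
    (hFL.trans (le_normalizer_Op L)) fun a ha ha1 => inf_le_right.trans (hcent a (hFA ha) ha1)
  obtain ⟨f, hfF, hf1⟩ : ∃ f ∈ F, f ≠ 1 := by
    by_contra hcon
    push Not at hcon
    exact Signalizer.ne_bot_of_pow_le two_ne_zero hF.ge ((Subgroup.eq_bot_iff_forall F).2 hcon)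
  obtain ⟨H, hH, hFH⟩ := c.exists_isCompl_ge hL hFL hFco
  have hHf : H ≤ centralizer ({f} : Set G) := fun h hh =>
    mem_centralizer_singleton_iff.mpr (c.commute hH.2.1 hh (hFH hfF))
  obtain ⟨g, hg, hgA⟩ := c.le_conj_of_le (c.centralizer_ne_top hf1)
    (hA.isCompl_centralizer c (hFA hfF) hf1) hHf hH.2.1
  have hgM : g ∈ M := hcent f (hFA hfF) hf1 hg
  set B := A.map (MulAut.conj g⁻¹).toMonoidHom with hBdef
  have hB : IsTorus p B := hA.conj c g⁻¹
  have hHB : H ≤ B := fun h hh => mem_conj_map.mpr (by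
    have := hgA ⟨h, hh, rfl⟩
    simpa [mul_assoc] using this)
  have hconjM : ∀ x, g * x * g⁻¹ ∈ M → x ∈ M := fun x hx => by
    have := M.mul_mem (M.mul_mem (M.inv_mem hgM) hx) hgM
    simpa [mul_assoc] using this
  intro l hl
  obtain ⟨o, ho, n, hn, hnH, rfl⟩ := c.decompose hL hH hl
  refine M.mul_mem (hO ho) ?_
  set x := n * f * n⁻¹
  have hxH : x ∈ H := (mem_normalizer_iff.mp hnH f).mp (hFH hfF)
  have hx1 : x ≠ 1 := fun e => hf1 (conj_eq_one_iff.mp e)
  have hxB : x ∈ B.map (MulAut.conj n).toMonoidHom := ⟨f, hHB (hFH hfF), rfl⟩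
  obtain ⟨d, hd, hde⟩ := c.isCompl_conj (c.centralizer_ne_top hx1)
    ((hB.conj c n).isCompl_centralizer c hxB hx1) (hB.isCompl_centralizer c (hHB hxH) hx1)
  rw [conj_map_conj_map] at hde
  have hdM : d ∈ M := by
    refine hconjM d (hcent (g * x * g⁻¹) ?_ (fun e => hx1 (conj_eq_one_iff.mp e)) ?_)
    · have := mem_conj_map.mp (hHB hxH)
      simpa using this
    · refine mem_centralizer_singleton_iff.mpr ?_
      calc g * d * g⁻¹ * (g * x * g⁻¹) = g * (d * x) * g⁻¹ := by group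
        _ = _ := by rw [mem_centralizer_singleton_iff.mp hd]; group
  have hdn : g * (d * n) * g⁻¹ ∈ normalizer (A : Set G) := by
    rw [mem_normalizer_iff_map_conj_eq]
    calc A.map (MulAut.conj (g * (d * n) * g⁻¹)).toMonoidHom
        = (B.map (MulAut.conj (d * n)).toMonoidHom).map (MulAut.conj g).toMonoidHom := by
          rw [hBdef, conj_map_conj_map, conj_map_conj_map, mul_assoc g]
      _ = A := by rw [hde, hBdef, conj_map_conj_map, mul_inv_cancel, conj_map_one]
  have := M.mul_mem (M.inv_mem hdM) (hconjM _ (hNA hdn))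
  simpa using this

/-- The centralizers of the nontrivial elements of a torus lie in its normalizer. -/
theorem cent_le (c : Cfg p G) (hA : IsTorus p A) {e : G} (he : e ∈ A) (he1 : e ≠ 1) :
    centralizer ({e} : Set G) ≤ normalizer (A : Set G) := by
  haveI : Fact p.Prime := ⟨c.prime⟩
  obtain ⟨W, hW, hAW, hmax⟩ := hA.exists_greatest c
  have hdec : ∀ e ∈ A, e ≠ 1 → ∀ g ∈ centralizer ({e} : Set G),
      ∃ o ∈ W, ∃ n ∈ normalizer (A : Set G), g = o * n := by
    intro e he he1 g hg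
    obtain ⟨o, ho, n, -, hn, rfl⟩ :=
      c.decompose (c.centralizer_ne_top he1) (hA.isCompl_centralizer c he he1) hg
    refine ⟨o, hmax _ (isPGroup_Op _) (fun a ha => le_normalizer_Op _
      (mem_centralizer_singleton_iff.mpr (c.commute hA.coprime ha he))) ho, n, hn, rfl⟩
  suffices hcW : A ≤ centralizer (W : Set G) by
    intro g hg
    obtain ⟨o, ho, n, hn, rfl⟩ := hdec e he he1 g hg
    refine mul_mem (centralizer_le_normalizer _ ?_) hn
    exact le_centralizer_iff.mp hcW ho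
  by_contra hnc
  have hWne : W ≠ ⊥ := fun h => hnc (by rw [h]; intro a _; exact mem_centralizer_iff.mpr (by simp))
  set M := normalizer (W : Set G) with hM
  have hMt : M ≠ ⊤ := c.normalizer_ne_top hWne (c.not_isPGroup p hW)
  have hNA : normalizer (A : Set G) ≤ M := fun g hg => by
    refine mem_normalizer_iff_map_conj_eq.mpr
      (eq_of_le_of_card_ge (hmax _ (hW.map _) ?_) (card_conj_map W g).ge)
    intro a ha
    have h1 : g⁻¹ * a * g ∈ A := by
      have := (mem_normalizer_iff.mp (inv_mem hg) a).mp ha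
      simpa using this
    have h2 := conj_map_eq (hAW h1)
    refine mem_normalizer_iff_map_conj_eq.mpr (show (W.map (MulAut.conj g).toMonoidHom).map
      (MulAut.conj a).toMonoidHom = W.map (MulAut.conj g).toMonoidHom from ?_)
    rw [conj_map_conj_map]
    conv_rhs => rw [← h2, conj_map_conj_map]
    congr 3
    group
  have hcent : ∀ e ∈ A, e ≠ 1 → centralizer ({e} : Set G) ≤ M := fun e he he1 g hg => by
    obtain ⟨o, ho, n, hn, rfl⟩ := hdec e he he1 g hg
    exact mul_mem (le_normalizer ho) (hNA hn)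
  have hAM : A ≤ M := le_normalizer.trans hNA
  have hAC := hA.isCompl_of_le c hMt hAM
  set E' := Cfsg.pPrimeCore p ↥M with hE'
  set E₀ := E'.map M.subtype with hE₀
  have hE₀n : M ≤ normalizer (E₀ : Set G) :=
    le_normalizer.trans (Cores.normalizer_le_normalizer_map E')
  have hE₀co : (Nat.card ↥E₀).Coprime p := by
    rw [hE₀, Cores.card_map_subtype]; exact Cores.coprime_card_pPrimeCore p
  have hE₀A : E₀ ≤ A := by
    obtain ⟨g, hg, hgA⟩ := c.le_conj_of_le hMt hAC (map_subtype_le _) hE₀co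
    rwa [conj_map_eq (hE₀n hg)] at hgA
  have hE₀W : E₀ ≤ centralizer (W : Set G) := fun x hx => mem_centralizer_iff.mpr fun w hw => by
    have hxM : x ∈ M := map_subtype_le _ hx
    have h1 : w * x * w⁻¹ * x⁻¹ ∈ E₀ ⊓ W := by
      refine mem_inf.mpr ⟨E₀.mul_mem ((mem_normalizer_iff.mp (hE₀n (le_normalizer hw)) x).mp hx) (E₀.inv_mem hx), ?_⟩
      have h2 := (mem_normalizer_iff.mp hxM w⁻¹).mp (inv_mem hw)
      have h3 := W.mul_mem hw h2
      simpa [mul_assoc] using h3
    obtain ⟨k, hk⟩ := IsPGroup.iff_card.mp hW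
    have h0 : E₀ ⊓ W = ⊥ := inf_eq_bot_of_coprime (by rw [hk]; exact hE₀co.pow_right k)
    rw [h0, mem_bot, mul_inv_eq_one, mul_inv_eq_iff_eq_mul] at h1
    exact h1
  obtain ⟨P⟩ : Nonempty (Sylow p ↥M) := inferInstance
  set Z' := Cfsg.centerThompsonOf p (P : Subgroup ↥M) with hZ'
  set Pg := (P : Subgroup ↥M).map M.subtype with hPg
  set L := normalizer (Cfsg.centerThompsonOf p Pg : Set G) with hLdef
  have hpM : p ∣ Nat.card ↥M := by
    obtain ⟨k, hk⟩ := IsPGroup.iff_card.mp hW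
    have hk0 : k ≠ 0 := fun h => hWne (card_eq_one.mp (by rw [hk, h, pow_zero]))
    exact ((dvd_pow_self p hk0).trans hk.symm.dvd).trans (Subgroup.card_dvd_of_le le_normalizer)
  have hPne : Pg ≠ ⊥ := fun h => P.ne_bot_of_dvd_card hpM
    ((Subgroup.map_eq_bot_iff_of_injective _ (subtype_injective M)).mp h)
  -- Glauberman's factorization of `M`
  haveI := c.sol M hMt
  have hfac : normalizer (Z' : Set ↥M) ⊔ E' = ⊤ := by
    set π := QuotientGroup.mk' E' with hπ
    have hπs : Function.Surjective π := QuotientGroup.mk'_surjective _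
    haveI : Group.IsSolvable (↥M ⧸ E') := Group.isSolvable_of_surjective hπs
    have hn := PLocal.zjCenter_normal (by have := c.five_le; omega)
      (Solvable.centralizer_pCore_le_of_isSolvable (Cores.pPrimeCore_quotient_self p))
      (fun Q _ hQ => ((c.sl2free.subgroup M).quotient E').pStableOn (by have := c.five_le; omega) Q hQ)
      (P.mapSurjective hπs)
    have hinj : Set.InjOn π (P : Subgroup ↥M) := by
      intro x hx y hy hxy
      have h1 : x⁻¹ * y ∈ E' := QuotientGroup.eq.mp hxy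
      have h2 : x⁻¹ * y ∈ (P : Subgroup ↥M) := mul_mem (inv_mem hx) hy
      obtain ⟨k, hk⟩ := IsPGroup.iff_card.mp P.2
      refine inv_mul_eq_one.mp (orderOf_eq_one_iff.mp ?_)
      exact Nat.eq_one_of_dvd_coprimes ((Cores.coprime_card_pPrimeCore p).pow_right k)
        (Subgroup.orderOf_dvd_natCard _ h1) (hk ▸ Subgroup.orderOf_dvd_natCard _ h2)
    rw [Sylow.coe_mapSurjective, ← PLocal.map_centerThompsonOf π hinj, ← hZ'] at hn
    haveI := hn
    set Y := (Z'.map π).comap π with hY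
    haveI : Y.Normal := Normal.comap inferInstance π
    have hYe : Y = Z' ⊔ E' := by rw [hY, comap_map_eq, QuotientGroup.ker_mk']
    have hZp : IsPGroup p ↥Z' := P.2.to_le (Z_le _)
    have hidx : ¬ p ∣ (Z'.subgroupOf Y).index := by
      intro hd
      have h1 := Subgroup.card_mul_index (Z'.subgroupOf Y)
      have hle : Z' ≤ Y := hYe ▸ le_sup_left
      rw [Cores.card_subgroupOf hle, hYe] at h1
      have h2 := Solvable.card_sup_dvd Z' E'
      rw [← h1] at h2
      have h3 : (Z'.subgroupOf Y).index ∣ Nat.card ↥E' := by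
        rw [hYe]; exact Nat.dvd_of_mul_dvd_mul_left Nat.card_pos h2
      exact (Fact.out : p.Prime).coprime_iff_not_dvd.mp (Cores.coprime_card_pPrimeCore p).symm
        (hd.trans h3)
    let T : Sylow p ↥Y := (hZp.comap_subtype (K := Y)).toSylow hidx
    have h := Sylow.normalizer_sup_eq_top T
    have hT : (T : Subgroup ↥Y).map Y.subtype = Z' := map_subgroupOf_eq_of_le (hYe ▸ le_sup_left)
    rw [hT, hYe, ← sup_assoc, sup_of_le_left le_normalizer] at h
    exact h
  have hfacG : ∀ m ∈ M, ∃ n, n ∈ M ∧ n ∈ L ∧ ∃ x ∈ E₀, m = n * x := by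
    intro m hm
    obtain ⟨n, hn, x, hx, hnx⟩ := mem_sup_of_normal_right.mp (hfac.ge (mem_top (⟨m, hm⟩ : ↥M)))
    refine ⟨n, n.2, ?_, x, ⟨x, hx, rfl⟩, (congrArg Subtype.val hnx).symm⟩
    have h1 := le_normalizer_map (f := M.subtype) ⟨n, hn, rfl⟩
    rwa [hZ', PLocal.map_centerThompsonOf _ (subtype_injective M).injOn] at h1
  by_cases hLM : L ≤ M
  · obtain ⟨S, hS⟩ := c.sylow_of_normalizer_le P
      ((normalizer_le_normalizer_Z _).trans hLM)
    have hperf : ∀ (N : Subgroup ↥L) [N.Normal], IsPGroup p (↥L ⧸ N) → N = ⊤ :=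
      fun N _ hN => c.eq_top_of_pGroup_quotient S (by rw [hLdef, hPg, ← hS]) N hN
    set N₀ := Cfsg.pResidual p ↥M
    have hq : IsPGroup p (↥M ⧸ N₀) := Transfer.isPGroup_quotient_pResidual
    set φ := (QuotientGroup.mk' N₀).comp (Subgroup.inclusion hLM)
    have hker : φ.ker = ⊤ := hperf φ.ker
      (hq.of_injective (QuotientGroup.kerLift φ) (QuotientGroup.kerLift_injective φ))
    have htop : N₀ = ⊤ := by
      rw [eq_top_iff]
      intro m _
      obtain ⟨n, hnM, hnL, x, hx, hmx⟩ := hfacG m m.2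
      have h1 : (⟨n, hnM⟩ : ↥M) ∈ N₀ :=
        (QuotientGroup.eq_one_iff _).mp (MonoidHom.mem_ker.mp (hker.ge (mem_top (⟨n, hnL⟩ : ↥L))))
      have h2 : (⟨x, map_subtype_le _ hx⟩ : ↥M) ∈ N₀ := Transfer.mem_pResidual_of_coprime (by
        rw [← Subgroup.orderOf_coe]
        exact hE₀co.coprime_dvd_left (Subgroup.orderOf_dvd_natCard _ hx))
      rw [show m = ⟨n, hnM⟩ * ⟨x, map_subtype_le _ hx⟩ from Subtype.ext hmx]
      exact mul_mem h1 h2
    have hgen : M ≤ Op p M ⊔ A := by
      intro m hm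
      have h1 : (⟨m, hm⟩ : ↥M) ∈ (Op p M ⊔ A).subgroupOf M := by
        refine (closure_le _).mpr ?_ (htop.ge (mem_top (⟨m, hm⟩ : ↥M)) :)
        intro y hy
        have hyc : (Nat.card ↥(zpowers (y : G))).Coprime p := by
          rw [Nat.card_zpowers, Subgroup.orderOf_coe]; exact hy
        obtain ⟨g, hg, hgy⟩ := c.le_conj_of_le hMt hAC (zpowers_le.mpr y.2) hyc
        have h2 : g * y * g⁻¹ ∈ Op p M ⊔ A := mem_sup_right (hgy ⟨y, mem_zpowers _, rfl⟩)
        exact (mem_normalizer_iff.mp (c.le_normalizer_sup hMt hAC hg) _).mpr h2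
      exact h1
    refine hA.ne_bot c ((Subgroup.eq_bot_iff_forall A).mpr fun a ha => hA.eq_one_of_commute c ha ?_)
    intro g hg
    have hg' : g ∈ ((Op p M ⊔ A : Subgroup G) : Set G) := hgen (hNA hg)
    rw [coe_mul_of_right_le_normalizer_left (Op p M) A (hAM.trans (le_normalizer_Op M))] at hg'
    obtain ⟨o, ho, b, hb, rfl⟩ := hg'
    have hoN : o ∈ normalizer (A : Set G) := by
      simpa using mul_mem hg (inv_mem (le_normalizer hb : b ∈ normalizer (A : Set G)))
    have h1 : o * a * o⁻¹ * a⁻¹ ∈ A ⊓ Op p M := by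
      refine mem_inf.mpr ⟨A.mul_mem ((mem_normalizer_iff.mp hoN a).mp ha) (A.inv_mem ha), ?_⟩
      have h2 := (mem_normalizer_iff.mp (le_normalizer_Op M (hAM ha)) o⁻¹).mp (inv_mem ho)
      have h3 := mul_mem ho h2
      simpa [mul_assoc] using h3
    obtain ⟨k, hk⟩ := IsPGroup.iff_card.mp (isPGroup_Op (p := p) M)
    have h0 : A ⊓ Op p M = ⊥ := inf_eq_bot_of_coprime (by rw [hk]; exact hA.coprime.pow_right k)
    rw [h0, mem_bot, mul_inv_eq_one, mul_inv_eq_iff_eq_mul] at h1
    rw [mul_assoc, c.commute hA.coprime hb ha, ← mul_assoc, h1, mul_assoc]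
  · have hLt : L ≠ ⊤ := c.normalizer_ne_top (Z_ne_bot (P.2.map _) hPne)
      (c.not_isPGroup p ((P.2.map _).to_le (Z_le _)))
    have hALco := hA.coprime.coprime_dvd_left (Subgroup.card_dvd_of_le (inf_le_left : A ⊓ L ≤ A))
    have hcyc : IsCyclic ↥(A ⊓ L) := by
      by_contra hcy
      obtain ⟨s, hs, F, hF, hFe, hFc⟩ := exists_elem_of_not_cyclic (c.hyp _ hALco).1 hcy
      haveI : Fact s.Prime := ⟨hs⟩
      exact hLM (hA.le_of_noncyclic c hcent hNA hLt (hF.trans inf_le_left) (hF.trans inf_le_right)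
        hFe hFc)
    have hlt := c.card_lt_of_cyclic hALco hcyc
    obtain ⟨Pn⟩ : Nonempty (Sylow p ↥(normalizer (A : Set G))) := inferInstance
    refine hnc fun a ha => ?_
    set Pn' := (Pn : Subgroup ↥(normalizer (A : Set G))).map (normalizer (A : Set G)).subtype
    have hPn' : ∀ x ∈ Pn', x ∈ normalizer (A : Set G) := fun x hx => map_subtype_le _ hx
    have hfix : ∀ x ∈ Pn', x * a * x⁻¹ * a⁻¹ ∈ E₀ := by
      intro x hx
      obtain ⟨k, hk⟩ := (Pn.2.map (normalizer (A : Set G)).subtype) ⟨x, hx⟩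
      have h1 := fix_of_small (F := A ⊓ L) (N := E₀) (a := a) hlt (hE₀n (hNA (hPn' x hx)))
        (congrArg Subtype.val hk) (fun i => by
          have hai : x ^ i * a * (x ^ i)⁻¹ ∈ A :=
            (mem_normalizer_iff.mp (pow_mem (hPn' x hx) i) a).mp ha
          obtain ⟨n, hnM, hnL, y, hy, hny⟩ := hfacG _ (hAM hai)
          refine ⟨n, ⟨?_, hnL⟩, y, hy, hny⟩
          have : n = x ^ i * a * (x ^ i)⁻¹ * y⁻¹ := by rw [hny, mul_inv_cancel_right]
          rw [this]
          exact A.mul_mem hai (A.inv_mem (hE₀A hy)))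
      have h2 := (mem_normalizer_iff.mp (hE₀n (hAM ha)) _).mp h1
      simpa [mul_assoc] using h2
    obtain ⟨y, hy, hya⟩ := Signalizer.exists_fixed_in_coset (Pn.2.map _)
      (fun x hx => hE₀n (hNA (hPn' x hx)))
      ((Fact.out : p.Prime).coprime_iff_not_dvd.mp hE₀co.symm) a hfix
    have h1 : y * a = 1 := hA.eq_one_of_commute_sylow c Pn (mul_mem (hE₀A hy) ha)
      (fun x hx => mem_centralizer_iff.mp hya x ⟨x, hx, rfl⟩)
    rw [show a = y⁻¹ from eq_inv_of_mul_eq_one_right h1]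
    exact hE₀W (inv_mem hy)

/-- Conjugates of a torus meet trivially. -/
theorem mem_normalizer_of_inter (c : Cfg p G) (hA : IsTorus p A) {g e : G} (he : e ∈ A)
    (heg : e ∈ A.map (MulAut.conj g).toMonoidHom) (he1 : e ≠ 1) : g ∈ normalizer (A : Set G) := by
  obtain ⟨d, hd, hde⟩ := c.isCompl_conj (c.centralizer_ne_top he1)
    (hA.isCompl_centralizer c he he1) ((hA.conj c g).isCompl_centralizer c heg he1)
  rw [conj_map_eq (hA.cent_le c he he1 hd)] at hde
  exact mem_normalizer_iff_map_conj_eq.mpr hde.symm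

theorem local_le (c : Cfg p G) (hA : IsTorus p A) {L : Subgroup G} (hL : L ≠ ⊤) {s : ℕ}
    [Fact s.Prime] {F : Subgroup G} (hFA : F ≤ A) (hFL : F ≤ L)
    (hFe : Cfsg.IsElementaryAbelian s F) (hF : Nat.card ↥F = s ^ 2) :
    L ≤ normalizer (A : Set G) :=
  hA.le_of_noncyclic c (fun _ he he1 => hA.cent_le c he he1) le_rfl hL hFA hFL hFe hF

/-- A noncyclic complement puts a proper subgroup into the normalizer of a torus. -/
theorem exists_le_of_noncyclic (c : Cfg p G) {L H : Subgroup G} (hL : L ≠ ⊤) (hH : IsCompl p H L)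
    (hnc : ¬ IsCyclic ↥H) : ∃ B : Subgroup G, IsTorus p B ∧ L ≤ normalizer (B : Set G) := by
  obtain ⟨s, hs, F, hF, hFe, hFc⟩ := exists_elem_of_not_cyclic (c.hyp H hH.2.1).1 hnc
  haveI : Fact s.Prime := ⟨hs⟩
  have hFp : IsPGroup s ↥F := Signalizer.isPGroup_of_elemAb hFe
  obtain ⟨S, hS⟩ := hFp.exists_le_sylow
  have hsp : s ≠ p := fun e => by
    have h := hH.2.1.coprime_dvd_left (Subgroup.card_dvd_of_le hF)
    rw [hFc, e, Nat.coprime_pow_left_iff (by norm_num), Nat.coprime_self] at h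
    exact c.prime.ne_one h
  have hd : s ∣ Nat.card G :=
    (dvd_pow_self s two_ne_zero).trans (hFc ▸ card_subgroup_dvd_card F)
  obtain ⟨B, hB, hSB, -⟩ := c.exists_torus hs hsp hd S
  exact ⟨B, hB, hB.local_le c hL (hS.trans hSB) (hF.trans hH.1) hFe hFc⟩

theorem sylow_ne_bot (c : Cfg p G) [Fact p.Prime] (hA : IsTorus p A)
    (P : Sylow p ↥(normalizer (A : Set G))) :
    (P : Subgroup ↥(normalizer (A : Set G))) ≠ ⊥ := fun h =>
  hA.ne_bot c ((Subgroup.eq_bot_iff_forall A).mpr fun a ha =>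
    hA.eq_one_of_commute_sylow c P ha fun x hx => by
      rw [h] at hx; rw [mem_bot.mp hx]; simp)

/-- A Sylow `p`-subgroup of the normalizer of a torus has normalizer outside it. -/
theorem not_normalizer_sylow_le (c : Cfg p G) [Fact p.Prime] (hA : IsTorus p A)
    (P : Sylow p ↥(normalizer (A : Set G))) :
    ¬ normalizer (((P : Subgroup ↥(normalizer (A : Set G))).map
      (normalizer (A : Set G)).subtype : Subgroup G) : Set G) ≤ normalizer (A : Set G) := by
  intro hN
  obtain ⟨S, hS⟩ := c.sylow_of_normalizer_le P hN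
  rw [← hS] at hN
  have hSne : (S : Subgroup G) ≠ ⊥ := fun h => hA.sylow_ne_bot c P
    ((Subgroup.map_eq_bot_iff_of_injective _ (subtype_injective (normalizer (A : Set G)))).mp (hS ▸ h))
  set L := normalizer (Cfsg.centerThompsonOf p (S : Subgroup G) : Set G) with hLdef
  have hSL : (S : Subgroup G) ≤ L := le_normalizer.trans (normalizer_le_normalizer_Z _)
  have hLt : L ≠ ⊤ := c.normalizer_ne_top (Z_ne_bot S.2 hSne) (c.not_isPGroup p (S.2.to_le (Z_le _)))
  have hinto : ∀ B : Subgroup G, IsTorus p B → ¬ L ≤ normalizer (B : Set G) := by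
    intro B hB hLB
    haveI : (B.subgroupOf (normalizer (B : Set G))).Normal :=
      normal_subgroupOf_of_le_normalizer le_rfl
    set φ := (QuotientGroup.mk' (B.subgroupOf (normalizer (B : Set G)))).comp (Subgroup.inclusion hLB)
    have hq : IsPGroup p (↥(normalizer (B : Set G)) ⧸ B.subgroupOf (normalizer (B : Set G))) := by
      obtain ⟨-, -, k, hk⟩ := hB.isCompl_of_le c (hB.normalizer_ne_top c) le_normalizer
      have h := Subgroup.card_mul_index (B.subgroupOf (normalizer (B : Set G)))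
      rw [Cores.card_subgroupOf le_normalizer, hk] at h
      exact IsPGroup.of_card (n := k) (Nat.eq_of_mul_eq_mul_left Nat.card_pos h)
    have hker : φ.ker = ⊤ := c.eq_top_of_pGroup_quotient S hLdef φ.ker
      (hq.of_injective (QuotientGroup.kerLift φ) (QuotientGroup.kerLift_injective φ))
    have hLB' : L ≤ B := fun x hx =>
      ((QuotientGroup.eq_one_iff (N := B.subgroupOf (normalizer (B : Set G)))
        (⟨x, hLB hx⟩ : ↥(normalizer (B : Set G)))).mp
          (MonoidHom.mem_ker.mp (hker.ge (mem_top (⟨x, hx⟩ : ↥L)))) :)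
    refine hSne ?_
    obtain ⟨k, hk⟩ := IsPGroup.iff_card.mp S.2
    have := inf_eq_bot_of_coprime (H := B) (K := (S : Subgroup G))
      (by rw [hk]; exact hB.coprime.pow_right k)
    rwa [inf_eq_right.mpr (hSL.trans hLB')] at this
  obtain ⟨H, hH⟩ := c.exists_isCompl hLt
  have hcyc : IsCyclic ↥H := by
    by_contra hnc
    obtain ⟨B, hB, hLB⟩ := exists_le_of_noncyclic c hLt hH hnc
    exact hinto B hB hLB
  have hsub : (S : Subgroup G) ≤ Op p L := by
    intro x hx
    obtain ⟨k, hk⟩ := S.2 ⟨x, hx⟩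
    exact c.mem_op_of_cyclic hLt hH hcyc (hSL hx) (congrArg Subtype.val hk)
  have hOp : Op p L = (S : Subgroup G) := S.3 (isPGroup_Op L) hsub
  refine hinto A hA ?_
  intro l hl
  refine hN ?_
  rw [← hOp]
  exact le_normalizer_Op L hl

end IsTorus

end Cfsg.Agent.AbelianPPrime
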