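/-
The configuration of `AbelianPPrime.Basic` in a group of even order: the normalizer of a torus
containing a Sylow `2`-subgroup is strongly embedded, it has `p` involutions, and every coset
outside it holds exactly `p` involutions.

Main results: `Cfg.exists_emb`, `Emb.card_inv`, `Emb.exists_inverted`,
`Emb.eq_one_of_fix`.
-/
import Cfsg.Agent.Lib.AbelianPPrime.Local

set_option autoImplicit false

namespace Cfsg.Agent.AbelianPPrime

open Subgroup
open scoped Pointwise

universe u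

variable {G : Type u} [Group G] [Finite G] {p : ℕ}

/-- An involution. -/
def IsInv (u : G) : Prop := u * u = 1 ∧ u ≠ 1

/-- The involutions of `A`. -/
abbrev Invs (A : Subgroup G) : Type u := {e : G // e ∈ A ∧ IsInv e}

namespace IsInv

variable {u v : G}

omit [Finite G] in
theorem inv_eq (h : IsInv u) : u⁻¹ = u := inv_eq_of_mul_eq_one_right h.1

omit [Finite G] in
theorem conj (h : IsInv u) (g : G) : IsInv (g * u * g⁻¹) :=
  ⟨by rw [show g * u * g⁻¹ * (g * u * g⁻¹) = g * (u * u) * g⁻¹ by group, h.1]; group,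
    fun e => h.2 (conj_eq_one_iff.mp e)⟩

omit [Finite G] in
theorem orderOf_eq (h : IsInv u) : orderOf u = 2 :=
  orderOf_eq_prime (by rw [sq]; exact h.1) h.2

omit [Finite G] in
theorem coprime (c : Cfg p G) (h : IsInv u) : (orderOf u).Coprime p := by
  rw [h.orderOf_eq]
  exact (Nat.coprime_primes Nat.prime_two c.prime).mpr (by have := c.five_le; omega)

/-- The product of two involutions with no common centralizing involution has odd order and
conjugates one to the other. -/
theorem exists_conj_zpowers (hu : IsInv u) (hv : IsInv v)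
    (h : ∀ z, IsInv z → z * u = u * z → z * v = v * z → False) :
    ∃ w ∈ zpowers (u * v), w * u * w⁻¹ = v := by
  have hinv : ∀ k : ℕ, u * (u * v) ^ k * u = ((u * v) ^ k)⁻¹ := by
    intro k
    calc u * (u * v) ^ k * u = u * (u * v) ^ k * u⁻¹ := by rw [hu.inv_eq]
      _ = (u * (u * v) * u⁻¹) ^ k := conj_pow.symm
      _ = _ := by
        rw [← inv_pow, mul_inv_rev, hu.inv_eq, hv.inv_eq, ← mul_assoc u u v, hu.1, one_mul]
  have hpos := orderOf_pos (u * v)
  rcases Nat.even_or_odd (orderOf (u * v)) with ⟨m, hm⟩ | ⟨k, hk⟩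
  · exfalso
    have hz2 : (u * v) ^ m * (u * v) ^ m = 1 := by rw [← pow_add, ← hm, pow_orderOf_eq_one]
    have hz1 : (u * v) ^ m ≠ 1 := fun e => by
      have := Nat.le_of_dvd (by omega) (orderOf_dvd_of_pow_eq_one e); omega
    have hzu : (u * v) ^ m * u = u * (u * v) ^ m := by
      have h1 := hinv m
      rw [inv_eq_of_mul_eq_one_right hz2] at h1
      calc (u * v) ^ m * u = u * (u * v) ^ m * u * u := by rw [h1]
        _ = _ := by rw [mul_assoc, hu.1, mul_one]
    refine h _ ⟨hz2, hz1⟩ hzu ?_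
    have hc : (u * v) ^ m * (u * v) = (u * v) * (u * v) ^ m := (pow_mul_comm' _ _)
    have hv' : v = u * (u * v) := by rw [← mul_assoc, hu.1, one_mul]
    calc (u * v) ^ m * v = (u * v) ^ m * (u * (u * v)) := by rw [← hv']
      _ = u * ((u * v) ^ m * (u * v)) := by rw [← mul_assoc, hzu, mul_assoc]
      _ = u * (u * v) * (u * v) ^ m := by rw [hc, mul_assoc u (u * v)]
      _ = _ := by rw [← hv']
  · refine ⟨(u * v) ^ k, pow_mem (mem_zpowers _) k, ?_⟩
    calc (u * v) ^ k * u * ((u * v) ^ k)⁻¹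
        = (u * v) ^ k * u * (u * (u * v) ^ k * u) := by rw [hinv k]
      _ = (u * v) ^ k * ((u * u) * (u * v) ^ k) * u := by group
      _ = (u * v) ^ (k + k) * u := by rw [hu.1, one_mul, ← pow_add]
      _ = (u * v) ^ (k + k + 1) * (u * v)⁻¹ * u := by rw [pow_succ]; group
      _ = v := by
        rw [← two_mul, ← hk, pow_orderOf_eq_one, one_mul, mul_inv_rev, hv.inv_eq, hu.inv_eq,
          mul_assoc, hu.1, mul_one]

end IsInv

/-- A torus containing a conjugate of each involution, with at least seven involutions. -/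
structure Emb (p : ℕ) (A : Subgroup G) : Prop where
  torus : IsTorus p A
  exists_conj : ∀ u, IsInv u → ∃ g : G, g⁻¹ * u * g ∈ A
  seven_le : 7 ≤ Nat.card (Invs A)

theorem Cfg.exists_emb (c : Cfg p G) (hev : 2 ∣ Nat.card G) : ∃ A : Subgroup G, Emb p A := by
  have h2p : 2 ≠ p := by have := c.five_le; omega
  obtain ⟨R⟩ : Nonempty (Sylow 2 G) := inferInstance
  obtain ⟨A, hA, hRA, -⟩ := c.exists_torus Nat.prime_two h2p hev R
  refine ⟨A, hA, fun u hu => ?_, ?_⟩
  · obtain ⟨S, hS⟩ := (IsPGroup.of_card (n := 1) (G := ↥(zpowers u)) (p := 2)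
      (by rw [Nat.card_zpowers, hu.orderOf_eq, pow_one])).exists_le_sylow
    obtain ⟨g, rfl⟩ := MulAction.exists_smul_eq G R S
    refine ⟨g, hRA ?_⟩
    have := hS (mem_zpowers u)
    exact mem_conj_map.mp this
  · let E : Subgroup G :=
      { carrier := {x | x ∈ (R : Subgroup G) ∧ x ^ 2 = 1}
        one_mem' := ⟨one_mem _, one_pow 2⟩
        mul_mem' := fun {x y} hx hy => ⟨mul_mem hx.1 hy.1, by
          rw [(show Commute x y from c.commute hA.coprime (hRA hx.1) (hRA hy.1)).mul_pow, hx.2, hy.2,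
            one_mul]⟩
        inv_mem' := fun {x} hx => ⟨inv_mem hx.1, by rw [inv_pow, hx.2, inv_one]⟩ }
    have h8 := IsTorus.three_le_rank c h2p hev R (E := E) (fun x => Iff.rfl)
    classical
    let f : ↥E → Option (Invs A) := fun x =>
      if h : (x : G) = 1 then none else some ⟨x, hRA x.2.1, by rw [← sq]; exact x.2.2, h⟩
    have hf : Function.Injective f := fun x y hxy => by
      by_cases hx : (x : G) = 1 <;> by_cases hy : (y : G) = 1
      · exact Subtype.ext (hx.trans hy.symm)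
      · simp only [f, dif_pos hx, dif_neg hy] at hxy
        exact absurd hxy (by simp)
      · simp only [f, dif_neg hx, dif_pos hy] at hxy
        exact absurd hxy (by simp)
      · simp only [f, dif_neg hx, dif_neg hy, Option.some.injEq, Subtype.mk.injEq] at hxy
        exact Subtype.ext hxy
    have h := Nat.card_le_card_of_injective f hf
    rw [Finite.card_option] at h
    omega

namespace Emb

variable (c : Cfg p G) {A : Subgroup G} (hA : Emb p A)
include c hA

theorem conj (g : G) : Emb p (A.map (MulAut.conj g).toMonoidHom) := by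
  refine ⟨hA.torus.conj c g, fun u hu => ?_, ?_⟩
  · obtain ⟨d, hd⟩ := hA.exists_conj u hu
    refine ⟨d * g⁻¹, mem_conj_map.mpr ?_⟩
    rw [show g⁻¹ * ((d * g⁻¹)⁻¹ * u * (d * g⁻¹)) * g = d⁻¹ * u * d by group]
    exact hd
  · refine hA.seven_le.trans (Nat.card_le_card_of_injective
      (fun e : Invs A => (⟨g * e * g⁻¹, ⟨e, e.2.1, rfl⟩, e.2.2.conj g⟩ :
        Invs (A.map (MulAut.conj g).toMonoidHom))) fun a b h => ?_)
    exact Subtype.ext (mul_left_cancel (mul_right_cancel (congrArg Subtype.val h)))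

theorem exists_emb_mem {u : G} (hu : IsInv u) : ∃ B : Subgroup G, Emb p B ∧ u ∈ B := by
  obtain ⟨g, hg⟩ := hA.exists_conj u hu
  exact ⟨_, hA.conj c g, mem_conj_map.mpr hg⟩

theorem mem_of_inv {u : G} (hu : IsInv u) (hM : u ∈ normalizer (A : Set G)) : u ∈ A :=
  hA.torus.mem_of_normalizer c hM (hu.coprime c)

theorem false_of_commute {u v : G} (hu : IsInv u) (_hv : IsInv v)
    (huM : u ∈ normalizer (A : Set G)) (hvM : v ∉ normalizer (A : Set G)) (hc : v * u = u * v) :
    False :=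
  hvM (hA.torus.cent_le c (hA.mem_of_inv c hu huM) hu.2 (mem_centralizer_singleton_iff.mpr hc))

theorem exists_not_mem : ∃ v : G, IsInv v ∧ v ∉ normalizer (A : Set G) := by
  by_contra hcon
  push Not at hcon
  have h7 := hA.seven_le
  obtain ⟨e⟩ : Nonempty (Invs A) := (Nat.card_pos_iff.mp (by omega)).1
  refine hA.torus.normalizer_ne_top c (eq_top_iff.mpr fun g _ => ?_)
  have h1 := hA.mem_of_inv c (e.2.2.conj g) (hcon _ (e.2.2.conj g))
  exact hA.torus.mem_normalizer_of_inter c h1 ⟨e, e.2.1, rfl⟩ (e.2.2.conj g).2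

theorem exists_conj_of_not_mem {e v : G} (he : IsInv e) (heA : e ∈ A) (hv : IsInv v)
    (hvM : v ∉ normalizer (A : Set G)) : ∃ w ∈ zpowers (e * v), w * e * w⁻¹ = v := by
  refine he.exists_conj_zpowers hv fun z hz hze hzv => ?_
  have hzM : z ∈ normalizer (A : Set G) :=
    hA.torus.cent_le c heA he.2 (mem_centralizer_singleton_iff.mpr hze)
  exact hA.false_of_commute c hz hv hzM hvM hzv.symm

theorem exists_conj_mem (e e' : Invs A) :
    ∃ m ∈ normalizer (A : Set G), m * e * m⁻¹ = (e' : G) := by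
  obtain ⟨v, hv, hvM⟩ := hA.exists_not_mem c
  obtain ⟨w, -, hw⟩ := hA.exists_conj_of_not_mem c e.2.2 e.2.1 hv hvM
  obtain ⟨w', -, hw'⟩ := hA.exists_conj_of_not_mem c e'.2.2 e'.2.1 hv hvM
  have h : w'⁻¹ * w * e * (w'⁻¹ * w)⁻¹ = (e' : G) := by
    calc w'⁻¹ * w * (e : G) * (w'⁻¹ * w)⁻¹ = w'⁻¹ * (w * e * w⁻¹) * w' := by group
      _ = _ := by rw [hw, ← hw']; group
  exact ⟨_, hA.torus.mem_normalizer_of_inter c e'.2.1 ⟨e, e.2.1, h⟩ e'.2.2.2, h⟩

theorem exists_two : ∃ E : Subgroup G, E ≤ A ∧ Cfsg.IsElementaryAbelian 2 E ∧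
    (∀ a, a ∈ E ↔ a ∈ A ∧ a * a = 1) ∧ ∃ k, Nat.card ↥E = 2 ^ k ∧
      Nat.card (Invs A) + 1 = 2 ^ k := by
  let E : Subgroup G :=
    { carrier := {x | x ∈ A ∧ x * x = 1}
      one_mem' := ⟨one_mem _, one_mul 1⟩
      mul_mem' := fun {x y} hx hy => ⟨mul_mem hx.1 hy.1, by
        rw [← sq, (show Commute x y from c.commute hA.torus.coprime hx.1 hy.1).mul_pow, sq, sq, hx.2,
          hy.2, one_mul]⟩
      inv_mem' := fun {x} hx => ⟨inv_mem hx.1, by rw [← mul_inv_rev, hx.2, inv_one]⟩ }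
  have hEe : Cfsg.IsElementaryAbelian 2 E :=
    ⟨⟨⟨fun x y => Subtype.ext (c.commute hA.torus.coprime x.2.1 y.2.1)⟩⟩,
      fun x hx => (sq x).trans hx.2⟩
  obtain ⟨k, hk⟩ := IsPGroup.iff_card.mp (Signalizer.isPGroup_of_elemAb hEe)
  refine ⟨E, fun x hx => hx.1, hEe, fun a => Iff.rfl, k, hk, ?_⟩
  classical
  rw [← hk, ← Finite.card_option]
  refine Nat.card_congr (Equiv.trans (Equiv.optionCongr ?_) (Equiv.optionSubtypeNe (1 : ↥E)))
  exact
    { toFun := fun e => ⟨⟨e, e.2.1, e.2.2.1⟩, fun h => e.2.2.2 (congrArg Subtype.val h)⟩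
      invFun := fun x => ⟨x.1, x.1.2.1, x.1.2.2, fun h => x.2 (Subtype.ext h)⟩
      left_inv := fun _ => rfl
      right_inv := fun _ => rfl }

theorem exists_four : ∃ F : Subgroup G, F ≤ A ∧ Cfsg.IsElementaryAbelian 2 F ∧
    Nat.card ↥F = 2 ^ 2 ∧ ∀ a ∈ F, a ≠ 1 → IsInv a := by
  obtain ⟨E, hEA, hEe, hE, k, hk, hk'⟩ := hA.exists_two c
  have h7 := hA.seven_le
  have h2k : 2 ≤ k := by
    by_contra hlt
    have : 2 ^ k ≤ 2 ^ 1 := Nat.pow_le_pow_right two_pos (by omega)
    omega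
  obtain ⟨F, hF⟩ := Sylow.exists_subgroup_card_pow_prime (G := ↥E) 2 (n := 2)
    (hk ▸ Nat.pow_dvd_pow 2 h2k)
  refine ⟨F.map E.subtype, (map_subtype_le F).trans hEA, ⟨⟨⟨fun x y => ?_⟩⟩, ?_⟩,
    by rw [Cores.card_map_subtype, hF], fun a ha ha1 => ⟨((hE a).mp (map_subtype_le F ha)).2, ha1⟩⟩
  · exact Subtype.ext (c.commute hA.torus.coprime (hEA (map_subtype_le F x.2))
      (hEA (map_subtype_le F y.2)))
  · exact fun x hx => hEe.2 x (map_subtype_le F hx)

/-- The torus has exactly `p` involutions. -/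
theorem card_inv : Nat.card (Invs A) = p := by
  haveI : Fact p.Prime := ⟨c.prime⟩
  have h7 := hA.seven_le
  obtain ⟨e⟩ : Nonempty (Invs A) := (Nat.card_pos_iff.mp (by omega)).1
  obtain ⟨P⟩ : Nonempty (Sylow p ↥(normalizer (A : Set G))) := inferInstance
  haveI : (A.subgroupOf (normalizer (A : Set G))).Normal :=
    normal_subgroupOf_of_le_normalizer le_rfl
  let act : MulAction ↥(P : Subgroup ↥(normalizer (A : Set G))) G :=
    MulAction.compHom G (MulAut.conj.comp ((normalizer (A : Set G)).subtype.comp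
      (P : Subgroup ↥(normalizer (A : Set G))).subtype))
  have hsmul : ∀ (x : ↥(P : Subgroup ↥(normalizer (A : Set G)))) (a : G),
      x • a = ((x : ↥(normalizer (A : Set G))) : G) * a * ((x : ↥(normalizer (A : Set G))) : G)⁻¹ :=
    fun x a => rfl
  have horb : MulAction.orbit ↥(P : Subgroup ↥(normalizer (A : Set G))) (e : G) =
      {a : G | a ∈ A ∧ IsInv a} := by
    ext a
    constructor
    · rintro ⟨x, rfl⟩
      show x • (e : G) ∈ A ∧ IsInv (x • (e : G))
      rw [hsmul]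
      exact ⟨(mem_normalizer_iff.mp (x : ↥(normalizer (A : Set G))).2 _).mp e.2.1, e.2.2.conj _⟩
    · intro ha
      obtain ⟨m, hm, hma⟩ := hA.exists_conj_mem c e ⟨a, ha⟩
      have hsup := hA.torus.sup_sylow c P
      rw [sup_comm] at hsup
      obtain ⟨x, hx, b, hb, hxb⟩ :=
        mem_sup_of_normal_right.mp (hsup.ge (mem_top (⟨m, hm⟩ : ↥(normalizer (A : Set G)))))
      refine ⟨⟨x, hx⟩, ?_⟩
      show (x : G) * e * (x : G)⁻¹ = a
      have hbe : (b : G) * e = e * b := c.commute hA.torus.coprime hb e.2.1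
      rw [show a = m * e * m⁻¹ from hma.symm, show m = (x : G) * b from
        (congrArg Subtype.val hxb).symm, mul_inv_rev]
      calc (x : G) * e * (x : G)⁻¹ = x * (e * b) * ((b : G)⁻¹ * (x : G)⁻¹) := by group
        _ = _ := by rw [← hbe]; group
  have hdvd : Nat.card (Invs A) ∣ Nat.card ↥(P : Subgroup ↥(normalizer (A : Set G))) := by
    have h := Subgroup.index_dvd_card
      (MulAction.stabilizer ↥(P : Subgroup ↥(normalizer (A : Set G))) (e : G))
    rw [MulAction.index_stabilizer, horb] at h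
    rwa [← Nat.card_coe_set_eq] at h
  obtain ⟨j, hj⟩ := IsPGroup.iff_card.mp P.2
  rw [hj] at hdvd
  obtain ⟨a, -, ha⟩ := (Nat.dvd_prime_pow c.prime).mp hdvd
  obtain ⟨-, -, -, -, k, -, hk⟩ := hA.exists_two c
  rw [ha] at hk h7 ⊢
  have hp2 : Odd p := c.prime.odd_of_ne_two (by have := c.five_le; omega)
  have hk3 : 3 ≤ k := by
    by_contra hlt
    have : 2 ^ k ≤ 2 ^ 2 := Nat.pow_le_pow_right two_pos (by omega)
    omega
  have h4 : 4 ∣ p ^ a + 1 := by
    rw [hk]
    exact (show 4 = 2 ^ 2 by norm_num) ▸ Nat.pow_dvd_pow 2 (by omega)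
  rcases Nat.even_or_odd' a with ⟨b, rfl | rfl⟩
  · exfalso
    obtain ⟨t, ht⟩ := hp2.pow (n := b)
    obtain ⟨s, hs⟩ := h4
    rw [mul_comm 2 b, pow_mul, ht] at hs
    have : (2 * t + 1) ^ 2 + 1 = 4 * (t * t + t) + 2 := by ring
    omega
  · -- `p + 1` is the largest power of two dividing `p ^ a + 1`
    have h1 : p + 1 ∣ p ^ (2 * b + 1) + 1 := by
      simpa using Odd.nat_add_dvd_pow_add_pow p 1 (odd_two_mul_add_one b)
    rw [hk] at h1
    obtain ⟨i, hik, hi⟩ := (Nat.dvd_prime_pow Nat.prime_two).mp h1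
    rcases Nat.lt_or_ge i k with hlt | hge
    · exfalso
      have hi2 : 2 ^ (i + 1) ∣ p ^ 2 - 1 := by
        rw [pow_succ, ← hi, show p ^ 2 - 1 = (p + 1) * (p - 1) by simpa using Nat.sq_sub_sq p 1]
        obtain ⟨t, ht⟩ := hp2
        exact Nat.mul_dvd_mul_left _ ⟨t, by omega⟩
      have hi3 : 2 ^ (i + 1) ∣ p ^ (2 * b) - 1 := by
        refine hi2.trans ?_
        rw [pow_mul]
        simpa using Nat.sub_dvd_pow_sub_pow (p ^ 2) 1 b
      have hi4 : 2 ^ (i + 1) ∣ p ^ (2 * b + 1) + 1 := hk ▸ Nat.pow_dvd_pow 2 hlt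
      have hi5 : 2 ^ (i + 1) ∣ (p ^ (2 * b) - 1) * p := hi3.mul_right p
      have he : p ^ (2 * b + 1) + 1 = (p ^ (2 * b) - 1) * p + (p + 1) := by
        have h1' : 1 ≤ p ^ (2 * b) := Nat.one_le_pow _ _ c.prime.pos
        obtain ⟨q, hq⟩ : ∃ q, p ^ (2 * b) = q + 1 := ⟨p ^ (2 * b) - 1, by omega⟩
        rw [pow_succ, hq, Nat.add_sub_cancel]
        ring
      rw [he] at hi4
      have hi6 := (Nat.dvd_add_right hi5).mp hi4
      rw [hi, pow_succ] at hi6
      have := Nat.le_of_dvd (by positivity) hi6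
      have : 0 < 2 ^ i := by positivity
      omega
    · have hik' : i = k := by omega
      rw [hik'] at hi
      omega

/-- A `p`-element of the normalizer commuting with one involution of the torus commutes with
all of them. -/
theorem commute_all {x e : G} (hx : x ∈ normalizer (A : Set G)) {k : ℕ} (hk : x ^ p ^ k = 1)
    (he : IsInv e) (heA : e ∈ A) (hc : x * e = e * x) : ∀ a ∈ A, IsInv a → x * a = a * x := by
  haveI : Fact p.Prime := ⟨c.prime⟩
  let act : MulAction ↥(zpowers x) (Invs A) :=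
    { smul := fun h a => ⟨(h : G) * a * (h : G)⁻¹,
        (mem_normalizer_iff.mp (zpowers_le.mpr hx h.2) _).mp a.2.1, a.2.2.conj _⟩
      one_smul := fun a => Subtype.ext (by show (1 : G) * a * (1 : G)⁻¹ = a; group)
      mul_smul := fun g h a => Subtype.ext (by
        show (g : G) * h * a * ((g : G) * h)⁻¹ = g * (h * a * (h : G)⁻¹) * (g : G)⁻¹; group) }
  have hsmul : ∀ (h : ↥(zpowers x)) (a : Invs A),
      ((h • a : Invs A) : G) = h * a * (h : G)⁻¹ := fun h a => rfl
  obtain ⟨j, -, hj⟩ := (Nat.dvd_prime_pow c.prime).mp (orderOf_dvd_of_pow_eq_one hk)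
  have hp : IsPGroup p ↥(zpowers x) := IsPGroup.of_card (n := j) (by rw [Nat.card_zpowers, hj])
  have hmod := hp.card_modEq_card_fixedPoints (Invs A)
  rw [hA.card_inv c] at hmod
  have hdvd : p ∣ Nat.card ↥(MulAction.fixedPoints ↥(zpowers x) (Invs A)) :=
    (Nat.modEq_zero_iff_dvd.mp (hmod.symm.trans (Nat.modEq_zero_iff_dvd.mpr dvd_rfl)))
  have he' : (⟨e, heA, he⟩ : Invs A) ∈ MulAction.fixedPoints ↥(zpowers x) (Invs A) := fun h => by
    apply Subtype.ext
    rw [hsmul]
    obtain ⟨i, hi⟩ := mem_zpowers_iff.mp h.2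
    have h1 : Commute (h : G) e := hi ▸ Commute.zpow_left hc i
    show (h : G) * e * (h : G)⁻¹ = e
    rw [h1.eq, mul_inv_cancel_right]
  have hpos : 0 < Nat.card ↥(MulAction.fixedPoints ↥(zpowers x) (Invs A)) :=
    Nat.card_pos_iff.mpr ⟨⟨⟨_, he'⟩⟩, inferInstance⟩
  have hb := (Nat.bijective_iff_injective_and_card
    (Subtype.val : ↥(MulAction.fixedPoints ↥(zpowers x) (Invs A)) → Invs A)).mpr
      ⟨Subtype.val_injective, le_antisymm (Finite.card_subtype_le _)
        ((hA.card_inv c).le.trans (Nat.le_of_dvd hpos hdvd))⟩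
  intro a ha hai
  obtain ⟨⟨b, hb1⟩, rfl⟩ := hb.2 ⟨a, ha, hai⟩
  have h2 := congrArg Subtype.val (hb1 ⟨x, mem_zpowers x⟩)
  rw [hsmul] at h2
  exact mul_inv_eq_iff_eq_mul.mp h2

/-- An element inverted by an outside involution moves every involution of the torus. -/
theorem eq_one_of_inverted {v x : G} (hv : IsInv v) (hvM : v ∉ normalizer (A : Set G))
    (hx : x ∈ normalizer (A : Set G)) (hxv : v * x * v = x⁻¹) {e : G} (he : IsInv e) (heA : e ∈ A)
    (hc : x * e = e * x) : x = 1 := by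
  obtain ⟨w, hw, hwe⟩ := hA.exists_conj_of_not_mem c he heA hv hvM
  have heN : e ∈ normalizer ((zpowers x : Subgroup G) : Set G) :=
    centralizer_le_normalizer _ (mem_centralizer_iff.mpr fun y hy => by
      obtain ⟨i, rfl⟩ := mem_zpowers_iff.mp hy
      exact (Commute.zpow_left hc i).eq)
  have hvN : v ∈ normalizer ((zpowers x : Subgroup G) : Set G) :=
    mem_normalizer_iff_map_conj_eq.mpr (by
      rw [MonoidHom.map_zpowers, show (MulAut.conj v : G →* G) x = x⁻¹ by
        simp [hv.inv_eq, hxv], zpowers_inv])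
  have hwN : w ∈ normalizer ((zpowers x : Subgroup G) : Set G) :=
    zpowers_le.mpr (mul_mem heN hvN) hw
  obtain ⟨i, hi⟩ : ∃ i : ℤ, x ^ i = w⁻¹ * x * w := mem_zpowers_iff.mp (by
    have := (mem_normalizer_iff.mp (inv_mem hwN) x).mp (mem_zpowers x)
    simpa using this)
  have h1 : v * x * v⁻¹ = x := by
    have h2 : e * x ^ i * e⁻¹ = x ^ i := by
      rw [← (Commute.zpow_left hc i).eq, mul_inv_cancel_right]
    calc v * x * v⁻¹ = w * (e * (w⁻¹ * x * w) * e⁻¹) * w⁻¹ := by rw [← hwe]; group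
      _ = x := by rw [← hi, h2, hi]; group
  rw [hv.inv_eq, hxv] at h1
  by_contra hx1
  have hxi : IsInv x := ⟨by nth_rw 1 [← h1]; exact inv_mul_cancel x, hx1⟩
  refine hA.false_of_commute c hxi hv hx hvM ?_
  calc v * x = v * x * v * v := by rw [mul_assoc (v * x), hv.1, mul_one]
    _ = x * v := by rw [hxv, h1]

theorem exists_pow_eq_one {g x : G} (hg : g ∉ normalizer (A : Set G))
    (hx : x ∈ normalizer (A : Set G)) (hxg : g⁻¹ * x * g ∈ normalizer (A : Set G)) :
    ∃ k, x ^ p ^ k = 1 := by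
  haveI : Fact p.Prime := ⟨c.prime⟩
  obtain ⟨u, v, rfl, hu, hv, ⟨k, hk⟩, hvo⟩ := Transfer.exists_pPart_mul (p := p) x
  have hvM : v ∈ normalizer (A : Set G) := zpowers_le.mpr hx hv
  have hvA := hA.torus.mem_of_normalizer c hvM hvo
  have hvg : g⁻¹ * v * g ∈ A := by
    refine hA.torus.mem_of_normalizer c ?_ ?_
    · obtain ⟨i, hi⟩ := mem_zpowers_iff.mp hv
      have := zpow_mem hxg i
      rwa [show (g⁻¹ * (u * v) * g) ^ i = g⁻¹ * (u * v) ^ i * g by
        simpa using (conj_zpow (i := i) (a := g⁻¹) (b := u * v)), hi] at this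
    · rw [show orderOf (g⁻¹ * v * g) = orderOf v by
        simpa using MulEquiv.orderOf_eq (MulAut.conj g⁻¹) v]
      exact hvo
  have hv1 : v = 1 := by
    by_contra hv1
    exact hg (hA.torus.mem_normalizer_of_inter c hvA (mem_conj_map.mpr hvg) hv1)
  exact ⟨k, by rw [hv1, mul_one, ← hk, pow_orderOf_eq_one]⟩

theorem card_all : Nat.card {u : G // IsInv u} =
    Nat.card (G ⧸ normalizer (A : Set G)) * p := by
  rw [← hA.card_inv c, ← Nat.card_prod]
  symm
  refine Nat.card_congr (Equiv.ofBijective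
    (fun x : (G ⧸ normalizer (A : Set G)) × Invs A =>
      (⟨x.1.out * x.2 * x.1.out⁻¹, x.2.2.2.conj _⟩ : {u : G // IsInv u})) ⟨?_, ?_⟩)
  · rintro ⟨q, e⟩ ⟨q', e'⟩ h
    have h0 : q.out * (e : G) * q.out⁻¹ = q'.out * (e' : G) * q'.out⁻¹ := congrArg Subtype.val h
    have hq : q = q' := by
      have h1 : q'.out⁻¹ * q.out * e * (q'.out⁻¹ * q.out)⁻¹ = (e' : G) := by
        calc q'.out⁻¹ * q.out * (e : G) * (q'.out⁻¹ * q.out)⁻¹
            = q'.out⁻¹ * (q.out * (e : G) * q.out⁻¹) * q'.out := by group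
          _ = _ := by rw [h0]; group
      have h2 := hA.torus.mem_normalizer_of_inter c e'.2.1 ⟨e, e.2.1, h1⟩ e'.2.2.2
      rw [← QuotientGroup.out_eq' q, ← QuotientGroup.out_eq' q']
      exact (QuotientGroup.eq.mpr h2).symm
    subst hq
    exact Prod.ext rfl (Subtype.ext (mul_left_cancel (mul_right_cancel h0)))
  · rintro ⟨u, hu⟩
    obtain ⟨g, hg⟩ := hA.exists_conj u hu
    obtain ⟨m, hm⟩ := QuotientGroup.mk_out_eq_mul (normalizer (A : Set G)) g
    refine ⟨⟨QuotientGroup.mk g, ⟨(m : G)⁻¹ * (g⁻¹ * u * g) * m, ?_, ?_⟩⟩, ?_⟩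
    · simpa using (mem_normalizer_iff.mp (inv_mem m.2) _).mp hg
    · simpa [mul_assoc] using hu.conj ((m : G)⁻¹ * g⁻¹)
    · apply Subtype.ext
      show (QuotientGroup.mk g : G ⧸ normalizer (A : Set G)).out * _ *
        (QuotientGroup.mk g : G ⧸ normalizer (A : Set G)).out⁻¹ = u
      rw [hm]
      group

/-- Every outside coset holds `p` involutions, and they fuse the involutions of the torus. -/
theorem exists_inverted :
    (∀ g, g ∉ normalizer (A : Set G) → ∃ u, IsInv u ∧ u⁻¹ * g ∈ normalizer (A : Set G)) ∧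
    ∀ u, IsInv u → u ∉ normalizer (A : Set G) → ∀ e e' : Invs A,
      ∃ x ∈ normalizer (A : Set G), u * x * u = x⁻¹ ∧ x * e * x⁻¹ = (e' : G) := by
  classical
  let M := normalizer (A : Set G)
  let T := {u : G // IsInv u ∧ u ∉ M}
  let Q := {q : G ⧸ M // q ≠ QuotientGroup.mk (1 : G)}
  obtain ⟨v₀, hv₀, hv₀M⟩ := hA.exists_not_mem c
  haveI : Nonempty T := ⟨⟨v₀, hv₀, hv₀M⟩⟩
  let s : G ⧸ M → T := Function.invFun (fun v : T => QuotientGroup.mk (v : G))
  have hs : ∀ v : T, ((s (QuotientGroup.mk (v : G)) : G))⁻¹ * (v : G) ∈ M := fun v =>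
    QuotientGroup.eq.mp
      (Function.invFun_eq (f := fun v : T => (QuotientGroup.mk (v : G) : G ⧸ M)) ⟨v, rfl⟩)
  have hs' : ∀ v : T, (s (QuotientGroup.mk (v : G)) : G) * v ∈ M := fun v => by
    have := hs v
    rwa [(s (QuotientGroup.mk (v : G))).2.1.inv_eq] at this
  have hcT : Nat.card T = Nat.card Q * Nat.card (Invs A) := by
    have h1 := hA.card_all c
    have h2 : Nat.card {u : G // IsInv u} = Nat.card (Invs A) + Nat.card T := by
      rw [← Nat.card_sum]
      refine Nat.card_congr ((Equiv.sumCompl fun u : {u : G // IsInv u} => (u : G) ∈ M).symm.trans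
        (Equiv.sumCongr ?_ ?_))
      · exact
          { toFun := fun u => ⟨u.1, hA.mem_of_inv c u.1.2 u.2, u.1.2⟩
            invFun := fun e => ⟨⟨e, e.2.2⟩, le_normalizer e.2.1⟩
            left_inv := fun _ => rfl
            right_inv := fun _ => rfl }
      · exact
          { toFun := fun u => ⟨u.1, u.1.2, u.2⟩
            invFun := fun t => ⟨⟨t, t.2.1⟩, t.2.2⟩
            left_inv := fun _ => rfl
            right_inv := fun _ => rfl }
    have h3 : Nat.card (G ⧸ M) = Nat.card Q + 1 := by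
      rw [← Finite.card_option]
      exact (Nat.card_congr (Equiv.optionSubtypeNe (QuotientGroup.mk (1 : G) : G ⧸ M))).symm
    rw [h2, h3, ← hA.card_inv c] at h1
    rw [add_mul, one_mul] at h1
    omega
  have hbij : ∀ e : Invs A, Function.Bijective fun v : T =>
      ((⟨QuotientGroup.mk (v : G), fun h => v.2.2
          (by simpa using inv_mem (QuotientGroup.eq.mp h))⟩,
        ⟨(s (QuotientGroup.mk (v : G)) : G) * v * e * ((s (QuotientGroup.mk (v : G)) : G) * v)⁻¹,
          (mem_normalizer_iff.mp (hs' v) _).mp e.2.1, e.2.2.conj _⟩) : Q × Invs A) := fun e => by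
    refine (Nat.bijective_iff_injective_and_card _).mpr ⟨?_, by rw [hcT, Nat.card_prod]⟩
    intro v w h
    have hq : (QuotientGroup.mk (v : G) : G ⧸ M) = QuotientGroup.mk (w : G) :=
      congrArg Subtype.val (congrArg Prod.fst h)
    have h0 : (s (QuotientGroup.mk (v : G)) : G) * v * e *
        ((s (QuotientGroup.mk (v : G)) : G) * v)⁻¹ = (s (QuotientGroup.mk (v : G)) : G) * w * e *
          ((s (QuotientGroup.mk (v : G)) : G) * w)⁻¹ := by
      have := congrArg Subtype.val (congrArg Prod.snd h)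
      dsimp only at this
      rwa [← hq] at this
    have hk : (v : G) * w ∈ M := by
      have := QuotientGroup.eq.mp hq
      rwa [v.2.1.inv_eq] at this
    have hc : (v : G) * w * e = e * (v * w) := by
      generalize (s (QuotientGroup.mk (v : G)) : G) = z at h0
      calc (v : G) * w * e = (v : G)⁻¹ * z⁻¹ * (z * w * e * (z * w)⁻¹) * z * w := by
            rw [v.2.1.inv_eq]; group
        _ = e * (v * w) := by
            rw [← h0, mul_inv_rev, v.2.1.inv_eq]; group
            rw [v.2.1.1, one_mul]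
    have h1 := hA.eq_one_of_inverted c v.2.1 v.2.2 hk
      (by rw [mul_inv_rev, w.2.1.inv_eq, v.2.1.inv_eq, ← mul_assoc (v : G) v, v.2.1.1, one_mul])
      e.2.2 e.2.1 hc
    apply Subtype.ext
    have := eq_inv_of_mul_eq_one_left h1
    rwa [w.2.1.inv_eq] at this
  refine ⟨fun g hg => ?_, fun u hu huM e e' => ?_⟩
  · have h7 := hA.seven_le
    obtain ⟨e⟩ : Nonempty (Invs A) := (Nat.card_pos_iff.mp (by omega)).1
    obtain ⟨v, hv⟩ := (hbij e).2 (⟨QuotientGroup.mk g, fun h => hg
      (by simpa using inv_mem (QuotientGroup.eq.mp h))⟩, e)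
    exact ⟨v, v.2.1, QuotientGroup.eq.mp (congrArg Subtype.val (congrArg Prod.fst hv))⟩
  · set z : G := u * (s (QuotientGroup.mk u) : G) with hz
    have hzM : z ∈ M := by
      have := inv_mem (hs' ⟨u, hu, huM⟩)
      rwa [mul_inv_rev, hu.inv_eq, (s (QuotientGroup.mk u)).2.1.inv_eq] at this
    obtain ⟨v, hv⟩ := (hbij e).2 (⟨QuotientGroup.mk u, fun h => huM
      (by simpa using inv_mem (QuotientGroup.eq.mp h))⟩, ⟨z⁻¹ * e' * z⁻¹⁻¹,
        (mem_normalizer_iff.mp (inv_mem hzM) _).mp e'.2.1, e'.2.2.conj _⟩)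
    have hq : (QuotientGroup.mk (v : G) : G ⧸ M) = QuotientGroup.mk u :=
      congrArg Subtype.val (congrArg Prod.fst hv)
    have h0 := congrArg Subtype.val (congrArg Prod.snd hv)
    simp only [hq] at h0
    refine ⟨u * v, ?_, ?_, ?_⟩
    · have := QuotientGroup.eq.mp hq.symm
      rwa [hu.inv_eq] at this
    · rw [mul_inv_rev, v.2.1.inv_eq, hu.inv_eq, ← mul_assoc u u, hu.1, one_mul]
    · have h2 : u * (v : G) = z * ((s (QuotientGroup.mk u) : G) * v) := by
        rw [hz, mul_assoc, ← mul_assoc (s (QuotientGroup.mk u) : G),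
          (s (QuotientGroup.mk u)).2.1.1, one_mul]
      rw [h2]
      calc _ = z * ((s (QuotientGroup.mk u) : G) * v * e *
            ((s (QuotientGroup.mk u) : G) * v)⁻¹) * z⁻¹ := by group
        _ = _ := by rw [h0]; group

/-- For an outside involution `u`, no nontrivial element of `M ∩ M ^ u` fixes an involution of the
torus. -/
theorem eq_one_of_inter {u x : G} (hu : IsInv u) (huM : u ∉ normalizer (A : Set G))
    (hx : x ∈ normalizer (A : Set G)) (hxu : u * x * u ∈ normalizer (A : Set G)) {e : G}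
    (he : IsInv e) (heA : e ∈ A) (hc : x * e = e * x) : x = 1 := by
  haveI : Fact p.Prime := ⟨c.prime⟩
  haveI : Fact (Nat.Prime 2) := ⟨Nat.prime_two⟩
  let conjU := (MulAut.conj u).toMonoidHom
  have hconjU : ∀ y, conjU y = u * y * u := fun y => by simp [conjU, hu.inv_eq]
  have hfl : ∀ y, u * (u * y * u) * u = y := fun y => by
    rw [← mul_assoc, ← mul_assoc, hu.1, one_mul, mul_assoc, hu.1, mul_one]
  let K : Subgroup G := normalizer (A : Set G) ⊓ (normalizer (A : Set G)).comap conjU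
  have hK : ∀ y, y ∈ K ↔ y ∈ normalizer (A : Set G) ∧ u * y * u ∈ normalizer (A : Set G) :=
    fun y => by simp [K, hconjU]
  have hKp : IsPGroup p ↥K := fun y => by
    obtain ⟨k, hk⟩ := hA.exists_pow_eq_one c huM ((hK y).mp y.2).1
      (by rw [hu.inv_eq]; exact ((hK y).mp y.2).2)
    exact ⟨k, Subtype.ext hk⟩
  have hKu : ∀ y ∈ K, u * y * u ∈ K := fun y hy => by
    rw [hK] at hy ⊢
    rw [hfl]
    exact hy.symm
  let C : Subgroup G := K ⊓ centralizer ({e} : Set G)
  have hC : ∀ y, y ∈ C ↔ y ∈ K ∧ y * e = e * y := fun y => by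
    simp [C, mem_centralizer_singleton_iff]
  have hall : ∀ y ∈ C, ∀ a ∈ A, IsInv a → y * a = a * y := fun y hy => by
    obtain ⟨hyK, hye⟩ := (hC y).mp hy
    obtain ⟨k, hk⟩ := hKp ⟨y, hyK⟩
    exact hA.commute_all c ((hK y).mp hyK).1 (congrArg Subtype.val hk) he heA hye
  -- no nontrivial element of `C ∩ C ^ u`
  have hCC : ∀ y ∈ C, u * y * u ∈ C → y = 1 := by
    intro y hy hyu
    by_contra hy1
    obtain ⟨F, hFA, hFe, hF, hFi⟩ := hA.exists_four c
    have hFy : F ≤ centralizer ({y} : Set G) := fun a ha =>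
      mem_centralizer_singleton_iff.mpr (by
        rcases eq_or_ne a 1 with rfl | ha1
        · rw [one_mul, mul_one]
        · exact (hall y hy a (hFA ha) (hFi a ha ha1)).symm)
    have hL := hA.torus.local_le c (c.centralizer_ne_top hy1) hFA hFy hFe hF
    have h1 : u * e * u ∈ centralizer ({y} : Set G) := by
      refine mem_centralizer_singleton_iff.mpr ?_
      have := ((hC _).mp hyu).2
      calc u * e * u * y = u * (e * (u * y * u)) * u := by
            rw [← mul_assoc, ← mul_assoc, mul_assoc _ u u, hu.1, mul_one, ← mul_assoc]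
        _ = u * (u * y * u * e) * u := by rw [this]
        _ = y * (u * e * u) := by
            rw [← mul_assoc u, ← mul_assoc u, ← mul_assoc u u, hu.1, one_mul]; group
    have huei : IsInv (u * e * u) := by have := he.conj u; rwa [hu.inv_eq] at this
    have h2 : u * e * u ∈ A := hA.mem_of_inv c huei (hL h1)
    exact huM (hA.torus.mem_normalizer_of_inter c h2
      ⟨e, heA, hconjU e⟩ huei.2)
  -- the orbit of `e` under `K`
  let act : MulAction ↥K G := MulAction.compHom G (MulAut.conj.comp K.subtype)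
  have hsmul : ∀ (y : ↥K) (a : G), y • a = (y : G) * a * (y : G)⁻¹ := fun y a => rfl
  have horb : MulAction.orbit ↥K e = {a : G | a ∈ A ∧ IsInv a} := by
    ext a
    constructor
    · rintro ⟨y, rfl⟩
      show y • e ∈ A ∧ IsInv (y • e)
      rw [hsmul]
      exact ⟨(mem_normalizer_iff.mp ((hK y).mp y.2).1 e).mp heA, he.conj _⟩
    · intro ha
      obtain ⟨y, hy, hyu, hye⟩ := (hA.exists_inverted c).2 u hu huM ⟨e, heA, he⟩ ⟨a, ha⟩
      exact ⟨⟨y, (hK y).mpr ⟨hy, hyu ▸ inv_mem hy⟩⟩, hye⟩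
  have hcard : Nat.card ↥K = p * Nat.card ↥C := by
    have hst : MulAction.stabilizer ↥K e = C.subgroupOf K := by
      ext y
      rw [MulAction.mem_stabilizer_iff, hsmul, mem_subgroupOf, hC, mul_inv_eq_iff_eq_mul]
      exact ⟨fun h => ⟨y.2, h⟩, fun h => h.2⟩
    have h := Subgroup.card_mul_index (MulAction.stabilizer ↥K e)
    rw [MulAction.index_stabilizer, horb, ← Nat.card_coe_set_eq,
      show Nat.card ↥({a : G | a ∈ A ∧ IsInv a}) = p from hA.card_inv c, hst,
      Cores.card_subgroupOf (inf_le_left : C ≤ K)] at h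
    rw [← h, mul_comm]
  have hle : Nat.card ↥C * Nat.card ↥C ≤ p * Nat.card ↥C := by
    rw [← hcard, ← Nat.card_prod]
    refine Nat.card_le_card_of_injective
      (fun ab : ↥C × ↥C => (⟨ab.1 * (u * ab.2 * u),
        mul_mem ((hC _).mp ab.1.2).1 (hKu _ ((hC _).mp ab.2.2).1)⟩ : ↥K)) ?_
    rintro ⟨a, b⟩ ⟨a', b'⟩ h
    have h0 : (a : G) * (u * b * u) = a' * (u * b' * u) := congrArg Subtype.val h
    have h1 : ((a' : G))⁻¹ * a = u * ((b' : G) * (b : G)⁻¹) * u := by
      calc ((a' : G))⁻¹ * a = (a' : G)⁻¹ * ((a : G) * (u * b * u)) * (u * b * u)⁻¹ := by group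
        _ = u * b' * u * (u⁻¹ * (b : G)⁻¹ * u⁻¹) := by rw [h0]; group
        _ = _ := by
          rw [hu.inv_eq, ← mul_assoc, ← mul_assoc, mul_assoc _ u u, hu.1, mul_one,
            ← mul_assoc u (b' : G)]
    have h2 : (a' : G)⁻¹ * a = 1 := by
      refine hCC _ (C.mul_mem (C.inv_mem a'.2) a.2) ?_
      rw [h1, hfl]
      exact C.mul_mem b'.2 (C.inv_mem b.2)
    have ha : a = a' := Subtype.ext (inv_mul_eq_one.mp h2).symm
    subst ha
    exact Prod.ext rfl (Subtype.ext (mul_left_cancel (mul_right_cancel (mul_left_cancel h0))))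
  have hCp := Nat.le_of_mul_le_mul_right hle Nat.card_pos
  obtain ⟨i, hi⟩ := IsPGroup.iff_card.mp
    (show IsPGroup p ↥C from hKp.to_le inf_le_left)
  rw [hi] at hCp
  have hi1 : i ≤ 1 := by
    by_contra h
    have := Nat.pow_lt_pow_right c.prime.one_lt (show 1 < i by omega)
    rw [pow_one] at this
    omega
  have hxC : x ∈ C := (hC x).mpr ⟨(hK x).mpr ⟨hx, hxu⟩, hc⟩
  by_contra hx1
  have hi0 : i ≠ 0 := fun h => by
    rw [h, pow_zero, card_eq_one] at hi
    rw [hi] at hxC
    exact hx1 (mem_bot.mp hxC)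
  have hK2 : Nat.card ↥K = p ^ 2 := by
    rw [hcard, hi, show i = 1 by omega, pow_one, sq]
  have hab : ∀ a ∈ K, ∀ b ∈ K, a * b = b * a := fun a ha b hb =>
    congrArg Subtype.val (IsPGroup.commutative_of_card_eq_prime_sq hK2 ⟨a, ha⟩ ⟨b, hb⟩)
  -- the product `k` of `x` and its conjugate is centralized by `u`
  set k : G := x * (u * x * u) with hkdef
  have hxK : x ∈ K := (hK x).mpr ⟨hx, hxu⟩
  have hkK : k ∈ K := mul_mem hxK (hKu x hxK)
  have hku : u * k * u = k := by
    calc u * k * u = u * x * u * (u * (u * x * u) * u) := by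
          rw [hkdef]; simp only [mul_assoc]; rw [← mul_assoc u u, hu.1, one_mul]
      _ = u * x * u * x := by rw [hfl]
      _ = k := hab _ (hKu x hxK) _ hxK
  have hk1 : k ≠ 1 := fun h => by
    have h1 : u * x * u = x⁻¹ := eq_inv_of_mul_eq_one_right h
    exact hx1 (hCC x hxC (h1 ▸ C.inv_mem hxC))
  obtain ⟨B, hB, huB⟩ := hA.exists_emb_mem c hu
  have hkc : k * u = u * k := by
    calc k * u = u * k * u * u := by rw [hku]
      _ = u * k := by rw [mul_assoc, hu.1, mul_one]
  have hkB : k ∈ normalizer (B : Set G) :=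
    hB.torus.cent_le c huB hu.2 (mem_centralizer_singleton_iff.mpr hkc)
  obtain ⟨j, hj⟩ := hKp ⟨k, hkK⟩
  have hkall := hB.commute_all c hkB (congrArg Subtype.val hj) hu huB hkc
  obtain ⟨F, hFB, hFe, hF, hFi⟩ := hB.exists_four c
  have hFk : F ≤ centralizer ({k} : Set G) := fun a ha =>
    mem_centralizer_singleton_iff.mpr (by
      rcases eq_or_ne a 1 with rfl | ha1
      · rw [one_mul, mul_one]
      · exact (hkall a (hFB ha) (hFi a ha ha1)).symm)
  have hKB : K ≤ normalizer (B : Set G) := fun y hy =>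
    hB.torus.local_le c (c.centralizer_ne_top hk1) hFB hFk hFe hF
      (mem_centralizer_singleton_iff.mpr (hab y hy k hkK))
  -- an element of `K` inverted by `u`
  obtain ⟨⟨e', he'⟩, hne⟩ : ∃ e' : Invs A, e' ≠ ⟨e, heA, he⟩ := by
    haveI : Nontrivial (Invs A) := Finite.one_lt_card_iff_nontrivial.mp
      (by rw [hA.card_inv c]; exact c.prime.one_lt)
    exact exists_ne _
  obtain ⟨y, hy, hyu, hye⟩ := (hA.exists_inverted c).2 u hu huM ⟨e, heA, he⟩ ⟨e', he'⟩
  have hyK : y ∈ K := (hK y).mpr ⟨hy, hyu ▸ inv_mem hy⟩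
  have hy2 : y * y ∈ B := by
    have h1 := B.mul_mem ((mem_normalizer_iff.mp (hKB hyK) u).mp huB) huB
    rwa [show y * u * y⁻¹ * u = y * y by
      calc y * u * y⁻¹ * u = y * (u * (u * y * u) * u) := by rw [hyu]; group
        _ = _ := by rw [hfl]] at h1
  obtain ⟨l, hl⟩ := hKp ⟨y, hyK⟩
  have hl' : y ^ p ^ l = 1 := congrArg Subtype.val hl
  have hy20 : y * y = 1 := by
    refine orderOf_eq_one_iff.mp (Nat.eq_one_of_dvd_coprimes (hB.torus.coprime.pow_right l)
      (Subgroup.orderOf_dvd_natCard _ hy2) (orderOf_dvd_of_pow_eq_one ?_))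
    rw [← sq, ← pow_mul, mul_comm, pow_mul, hl', one_pow]
  have hy1 : y = 1 := by
    refine orderOf_eq_one_iff.mp (Nat.eq_one_of_dvd_coprimes
      (Nat.Coprime.pow_right l ((Nat.coprime_primes Nat.prime_two c.prime).mpr
        (by have := c.five_le; omega)))
      (orderOf_dvd_of_pow_eq_one (by rw [sq]; exact hy20)) (orderOf_dvd_of_pow_eq_one hl'))
  refine hne (Subtype.ext (show e' = e from ?_))
  rw [hy1, one_mul, inv_one, mul_one] at hye
  exact hye.symm

/-- A `p`-element of the normalizer fixing an involution of the torus is trivial. -/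
theorem eq_one_of_fix {s e : G} (hs : s ∈ normalizer (A : Set G)) {k : ℕ} (hk : s ^ p ^ k = 1)
    (he : IsInv e) (heA : e ∈ A) (hc : s * e = e * s) : s = 1 := by
  haveI : Fact p.Prime := ⟨c.prime⟩
  obtain ⟨j, -, hj⟩ := (Nat.dvd_prime_pow c.prime).mp (orderOf_dvd_of_pow_eq_one hk)
  obtain ⟨P, hP⟩ := (IsPGroup.of_card (n := j) (p := p)
    (G := ↥(zpowers (⟨s, hs⟩ : ↥(normalizer (A : Set G)))))
      (by rw [Nat.card_zpowers, ← hj, ← Subgroup.orderOf_coe])).exists_le_sylow
  obtain ⟨g, hgN, hgM⟩ := SetLike.not_le_iff_exists.mp (hA.torus.not_normalizer_sylow_le c P)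
  obtain ⟨u, hu, hug⟩ := (hA.exists_inverted c).1 g hgM
  have huM : u ∉ normalizer (A : Set G) := fun h =>
    hgM (by have := mul_mem h hug; simpa using this)
  refine hA.eq_one_of_inter c hu huM hs ?_ he heA hc
  have h1 : g⁻¹ * s * g ∈ normalizer (A : Set G) := by
    have h2 := (mem_normalizer_iff.mp (inv_mem hgN) s).mp ⟨⟨s, hs⟩, hP (mem_zpowers _), rfl⟩
    rw [inv_inv] at h2
    exact map_subtype_le _ h2
  have h3 := mul_mem (mul_mem hug h1) (inv_mem hug)
  rwa [show u⁻¹ * g * (g⁻¹ * s * g) * (u⁻¹ * g)⁻¹ = u⁻¹ * s * u by group, hu.inv_eq] at h3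

end Emb

end Cfsg.Agent.AbelianPPrime
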