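/-
The configuration of `AbelianPPrime.Basic` has odd order: the pairs of noncommuting involutions
match the pairs formed by a nontrivial `p`-element and an involution inverting it, and the two
counts differ modulo powers of `p`.

Main result: `Cfg.false_of_even`.
-/
import Cfsg.Agent.Lib.AbelianPPrime.Embedded

set_option autoImplicit false

namespace Cfsg.Agent.AbelianPPrime

open Subgroup
open scoped Pointwise

universe u

variable {G : Type u} [Group G] [Finite G] {p : ℕ}

/-- A `p`-element. -/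
def IsPElt (p : ℕ) (y : G) : Prop := ∃ k, y ^ p ^ k = 1

omit [Finite G] in
theorem IsPElt.orderOf_coprime {y : G} (hy : IsPElt p y) {n : ℕ} (hn : n.Coprime p) :
    n.Coprime (orderOf y) := by
  obtain ⟨k, hk⟩ := hy
  exact (hn.pow_right k).coprime_dvd_right (orderOf_dvd_of_pow_eq_one hk)

omit [Finite G] in
theorem isPElt_of_mem {S : Subgroup G} (hS : IsPGroup p ↥S) {y : G} (hy : y ∈ S) : IsPElt p y := by
  obtain ⟨k, hk⟩ := hS ⟨y, hy⟩
  exact ⟨k, congrArg Subtype.val hk⟩

omit [Finite G] in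
theorem IsPElt.conj {y : G} (hy : IsPElt p y) (g : G) : IsPElt p (g * y * g⁻¹) := by
  obtain ⟨k, hk⟩ := hy
  exact ⟨k, by rw [conj_pow, hk, mul_one, mul_inv_cancel]⟩

namespace Cfg

variable (c : Cfg p G)
include c

omit [Finite G] in
theorem ne_two : 2 ≠ p := by have := c.five_le; omega

omit [Finite G] in
theorem eq_one_of_sq {y : G} (hy : IsPElt p y) (h : y * y = 1) : y = 1 :=
  orderOf_eq_one_iff.mp (Nat.eq_one_of_dvd_coprimes
    (hy.orderOf_coprime ((Nat.coprime_primes Nat.prime_two c.prime).mpr c.ne_two))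
    (orderOf_dvd_of_pow_eq_one (by rw [sq]; exact h)) dvd_rfl)

/-- Cyclic subgroups hold at most one involution. -/
theorem eq_of_isCyclic {H : Subgroup G} (hH : IsCyclic ↥H) {a b : G} (ha : IsInv a) (haH : a ∈ H)
    (hb : IsInv b) (hbH : b ∈ H) : a = b := by
  classical
  haveI := hH
  haveI := Fintype.ofFinite ↥H
  by_contra hne
  have h := IsCyclic.card_pow_eq_one_le (α := ↥H) (n := 2) (by norm_num)
  have hsub : ({1, ⟨a, haH⟩, ⟨b, hbH⟩} : Finset ↥H) ⊆ Finset.univ.filter (fun x => x ^ 2 = 1) := by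
    intro x hx
    simp only [Finset.mem_insert, Finset.mem_singleton] at hx
    simp only [Finset.mem_filter, Finset.mem_univ, true_and, sq]
    rcases hx with rfl | rfl | rfl
    · exact one_mul 1
    · exact Subtype.ext ha.1
    · exact Subtype.ext hb.1
  have h3 : ({1, ⟨a, haH⟩, ⟨b, hbH⟩} : Finset ↥H).card = 3 := by
    rw [Finset.card_insert_of_notMem, Finset.card_insert_of_notMem, Finset.card_singleton]
    · simp only [Finset.mem_singleton]
      exact fun e => hne (congrArg Subtype.val e)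
    · simp only [Finset.mem_insert, Finset.mem_singleton, not_or]
      exact ⟨fun e => ha.2 (congrArg Subtype.val e).symm, fun e => hb.2 (congrArg Subtype.val e).symm⟩
  have := (Finset.card_le_card hsub).trans h
  omega

theorem card_sylow_le_card (Q : Sylow p G) {S : Subgroup G} (hS : IsPGroup p ↥S) :
    Nat.card ↥S ≤ Nat.card ↥(Q : Subgroup G) := by
  haveI : Fact p.Prime := ⟨c.prime⟩
  obtain ⟨T, hT⟩ := hS.exists_le_sylow
  refine (Nat.le_of_dvd Nat.card_pos (Subgroup.card_dvd_of_le hT)).trans ?_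
  rw [Sylow.card_eq_multiplicity T, Sylow.card_eq_multiplicity Q]

end Cfg

namespace Emb

variable (c : Cfg p G) {A : Subgroup G} (hA : Emb p A)
include c hA

/-- A `p`-group normalized by an involution that fixes none of its elements is inverted by it. -/
theorem inverts {v : G} (hv : IsInv v) {S : Subgroup G} (hS : IsPGroup p ↥S)
    (hvS : v ∈ normalizer (S : Set G)) : ∀ x ∈ S, v * x * v = x⁻¹ := by
  have hfree : ∀ s ∈ S, s * v = v * s → s = 1 := fun s hs hsv => by
    obtain ⟨B, hB, hvB⟩ := hA.exists_emb_mem c hv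
    obtain ⟨k, hk⟩ := isPElt_of_mem hS hs
    exact hB.eq_one_of_fix c
      (hB.torus.cent_le c hvB hv.2 (mem_centralizer_singleton_iff.mpr hsv)) hk hv hvB hsv
  have hconj : ∀ s ∈ S, v * s * v ∈ S := fun s hs => by
    have := (mem_normalizer_iff.mp hvS s).mp hs
    rwa [hv.inv_eq] at this
  let f : ↥S → ↥S := fun s => ⟨(s : G)⁻¹ * (v * s * v), S.mul_mem (S.inv_mem s.2) (hconj s s.2)⟩
  have hf : Function.Injective f := fun s t h => by
    have h0 : (s : G)⁻¹ * (v * s * v) = (t : G)⁻¹ * (v * t * v) := congrArg Subtype.val h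
    have h1 : (s : G)⁻¹ * v * s = (t : G)⁻¹ * v * t := by
      simpa only [← mul_assoc, mul_left_inj] using h0
    have h2 : (t : G) * (s : G)⁻¹ * v = v * ((t : G) * (s : G)⁻¹) := by
      calc (t : G) * (s : G)⁻¹ * v = t * ((s : G)⁻¹ * v * s) * (s : G)⁻¹ := by group
        _ = _ := by rw [h1]; group
    exact Subtype.ext (mul_inv_eq_one.mp (hfree _ (S.mul_mem t.2 (S.inv_mem s.2)) h2)).symm
  intro x hx
  obtain ⟨s, hs⟩ := Finite.injective_iff_surjective.mp hf ⟨x, hx⟩
  have hs' : (s : G)⁻¹ * (v * s * v) = x := congrArg Subtype.val hs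
  rw [← hs', mul_inv_rev, inv_inv, mul_inv_rev, mul_inv_rev, hv.inv_eq]
  simp only [← mul_assoc]
  rw [mul_assoc _ v v, hv.1, mul_one]

/-- The `p`-elements near an element inverted by an involution. -/
theorem inverter_structure {v y : G} (hv : IsInv v) (hy : IsPElt p y) (hy1 : y ≠ 1)
    (hvy : v * y * v = y⁻¹) :
    ∃ S : Subgroup G, IsPGroup p ↥S ∧ (∀ x, x * y = y * x → IsPElt p x → x ∈ S) ∧
      (∀ x ∈ S, v * x * v = x⁻¹) ∧ ∀ w, IsInv w → w * y * w = y⁻¹ → v * w ∈ S := by
  haveI : Fact p.Prime := ⟨c.prime⟩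
  set L := normalizer ((zpowers y : Subgroup G) : Set G) with hLdef
  have hinvL : ∀ w, IsInv w → w * y * w = y⁻¹ → w ∈ L := fun w hw hwy =>
    mem_normalizer_iff_map_conj_eq.mpr (by
      rw [MonoidHom.map_zpowers, show (MulAut.conj w : G →* G) y = y⁻¹ by
        simp [hw.inv_eq, hwy], zpowers_inv])
  have hLt : L ≠ ⊤ := c.normalizer_ne_top (zpowers_ne_bot.mpr hy1) (c.not_isPGroup p (by
    obtain ⟨k, hk⟩ := hy
    obtain ⟨j, -, hj⟩ := (Nat.dvd_prime_pow c.prime).mp (orderOf_dvd_of_pow_eq_one hk)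
    exact IsPGroup.of_card (n := j) (by rw [Nat.card_zpowers, hj])))
  have hzco : ∀ w : G, IsInv w → (Nat.card ↥(zpowers w)).Coprime p := fun w hw => by
    rw [Nat.card_zpowers]; exact hw.coprime c
  have hvL := hinvL v hv hvy
  obtain ⟨H, hH, hvH'⟩ := c.exists_isCompl_ge hLt (zpowers_le.mpr hvL) (hzco v hv)
  have hvH : v ∈ H := hvH' (mem_zpowers v)
  have hcyc : IsCyclic ↥H := by
    by_contra hnc
    obtain ⟨B, hB, hLB⟩ := IsTorus.exists_le_of_noncyclic c hLt hH hnc
    have hvB : v ∈ B := hB.mem_of_normalizer c (hLB hvL) (hv.coprime c)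
    have h1 : y * v * y⁻¹ * v ∈ B :=
      B.mul_mem ((mem_normalizer_iff.mp (hLB (le_normalizer (mem_zpowers y))) v).mp hvB) hvB
    rw [mul_assoc _ y⁻¹ v, ← hvy, show y * v * (v * y * v * v) = y * (v * v) * y * (v * v) by group,
      hv.1, mul_one, mul_one] at h1
    have h2 : IsPElt p (y * y) := by
      obtain ⟨k, hk⟩ := hy
      exact ⟨k, by rw [(Commute.refl y).mul_pow, hk, one_mul]⟩
    refine hy1 (c.eq_one_of_sq hy (orderOf_eq_one_iff.mp (Nat.eq_one_of_dvd_coprimes
      (h2.orderOf_coprime hB.coprime) (Subgroup.orderOf_dvd_natCard _ h1) dvd_rfl)))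
  have hvS : v ∈ normalizer ((Op p L : Subgroup G) : Set G) := le_normalizer_Op L hvL
  have hinv := hA.inverts c hv (isPGroup_Op L) hvS
  refine ⟨Op p L, isPGroup_Op L, fun x hxy hx => ?_, hinv, fun w hw hwy => ?_⟩
  · obtain ⟨k, hk⟩ := hx
    refine c.mem_op_of_cyclic hLt hH hcyc (centralizer_le_normalizer _ ?_) hk
    refine mem_centralizer_iff.mpr fun z hz => ?_
    obtain ⟨i, rfl⟩ := mem_zpowers_iff.mp hz
    exact (Commute.zpow_left (show Commute y x from hxy.symm) i).eq
  · obtain ⟨l, hl, hlH⟩ := c.le_conj_of_le hLt hH (zpowers_le.mpr (hinvL w hw hwy)) (hzco w hw)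
    have hlw : l * w * l⁻¹ = v :=
      c.eq_of_isCyclic hcyc (hw.conj l) (hlH ⟨w, mem_zpowers w, rfl⟩) hv hvH
    obtain ⟨o, ho, n, -, hn, hon⟩ := c.decompose hLt hH (L.inv_mem hl)
    have hnv : n * v * n⁻¹ = v :=
      c.eq_of_isCyclic hcyc (hv.conj n) ((mem_normalizer_iff.mp hn v).mp hvH) hv hvH
    have hw' : w = o * v * o⁻¹ := by
      calc w = l⁻¹ * (l * w * l⁻¹) * l⁻¹⁻¹ := by group
        _ = o * n * v * (o * n)⁻¹ := by rw [hlw, hon]
        _ = o * (n * v * n⁻¹) * o⁻¹ := by group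
        _ = _ := by rw [hnv]
    rw [hw', show v * (o * v * o⁻¹) = v * o * v * o⁻¹ by group, hinv o ho]
    exact (Op p L).mul_mem ((Op p L).inv_mem ho) ((Op p L).inv_mem ho)

/-- A Sylow `p`-subgroup is inverted by an involution. -/
theorem exists_inverted_sylow :
    ∃ (Q : Sylow p G) (v : G), IsInv v ∧ (∀ q ∈ (Q : Subgroup G), v * q * v = q⁻¹) ∧
      p ∣ Nat.card ↥(Q : Subgroup G) := by
  haveI : Fact p.Prime := ⟨c.prime⟩
  haveI : Nontrivial (Invs A) := Finite.one_lt_card_iff_nontrivial.mp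
    (by rw [hA.card_inv c]; exact c.prime.one_lt)
  obtain ⟨e, e', hne⟩ := exists_pair_ne (Invs A)
  obtain ⟨v, hv, hvM⟩ := hA.exists_not_mem c
  obtain ⟨x, hx, hxv, hxe⟩ := (hA.exists_inverted c).2 v hv hvM e e'
  have hxp : IsPElt p x := hA.exists_pow_eq_one c hvM hx
    (by rw [hv.inv_eq, hxv]; exact inv_mem hx)
  have hx1 : x ≠ 1 := fun h => hne (Subtype.ext (by
    rw [h, one_mul, inv_one, mul_one] at hxe
    exact hxe))
  obtain ⟨S, hS, hmemS, hinvS, -⟩ := hA.inverter_structure c hv hxp hx1 hxv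
  obtain ⟨Q, hQ⟩ := hS.exists_le_sylow
  have hxQ : x ∈ (Q : Subgroup G) := hQ (hmemS x rfl hxp)
  have hQne : (Q : Subgroup G) ≠ ⊥ := fun h => hx1 (mem_bot.mp (h ▸ hxQ))
  obtain ⟨z, ⟨hzQ, hzc⟩, hz1, hzp⟩ := PLocal.exists_central_of_order_p Q.2 hQne
  have hz : IsPElt p z := ⟨1, by rw [pow_one]; exact hzp⟩
  have hzv : v * z * v = z⁻¹ := hinvS z (hmemS z (mem_centralizer_iff.mp hzc x hxQ).symm hz)
  obtain ⟨S', hS', hmemS', hinvS', -⟩ := hA.inverter_structure c hv hz hz1 hzv
  refine ⟨Q, v, hv, fun q hq => hinvS' q (hmemS' q (mem_centralizer_iff.mp hzc q hq)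
    (isPElt_of_mem Q.2 hq)), ?_⟩
  obtain ⟨j, hj⟩ := IsPGroup.iff_card.mp Q.2
  rw [hj]
  refine dvd_pow_self p fun h => hQne (card_eq_one.mp ?_)
  rw [hj, h, pow_zero]

/-- A `p`-element is inverted by exactly as many involutions as a Sylow subgroup has elements. -/
theorem card_inverters {Q : Sylow p G} {v : G} (hv : IsInv v)
    (hQ : ∀ q ∈ (Q : Subgroup G), v * q * v = q⁻¹) {y : G} (hy : IsPElt p y) (hy1 : y ≠ 1) :
    Nat.card {w : G // IsInv w ∧ w * y * w = y⁻¹} = Nat.card ↥(Q : Subgroup G) := by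
  haveI : Fact p.Prime := ⟨c.prime⟩
  have hQc : ∀ a ∈ (Q : Subgroup G), ∀ b ∈ (Q : Subgroup G), a * b = b * a := by
    intro a ha b hb
    have h1 := hQ (a * b) (mul_mem ha hb)
    rw [show v * (a * b) * v = v * a * v * (v * b * v) by
      rw [show v * a * v * (v * b * v) = v * a * (v * v) * b * v by group, hv.1, mul_one, ← mul_assoc],
      hQ a ha, hQ b hb, ← mul_inv_rev, inv_inj] at h1
    exact h1.symm
  obtain ⟨j, -, hj⟩ := (Nat.dvd_prime_pow c.prime).mp (orderOf_dvd_of_pow_eq_one hy.choose_spec)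
  obtain ⟨T, hT⟩ := (IsPGroup.of_card (n := j) (p := p) (G := ↥(zpowers y))
    (by rw [Nat.card_zpowers, hj])).exists_le_sylow
  obtain ⟨g, rfl⟩ := MulAction.exists_smul_eq G Q T
  have hyQ : g⁻¹ * y * g ∈ (Q : Subgroup G) := mem_conj_map.mp (hT (mem_zpowers y))
  have hv' : IsInv (g * v * g⁻¹) := hv.conj g
  have hv'y : g * v * g⁻¹ * y * (g * v * g⁻¹) = y⁻¹ := by
    calc g * v * g⁻¹ * y * (g * v * g⁻¹) = g * (v * (g⁻¹ * y * g) * v) * g⁻¹ := by group
      _ = _ := by rw [hQ _ hyQ]; group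
  set v' := g * v * g⁻¹
  obtain ⟨S, hS, hmemS, hinvS, hcoset⟩ := hA.inverter_structure c hv' hy hy1 hv'y
  have hyS : y ∈ S := hmemS y rfl hy
  have hSQ : Nat.card ↥S = Nat.card ↥(Q : Subgroup G) := by
    refine le_antisymm (c.card_sylow_le_card Q hS) ?_
    rw [← card_conj_map (Q : Subgroup G) g]
    refine Nat.le_of_dvd Nat.card_pos (Subgroup.card_dvd_of_le ?_)
    intro x hx
    refine hmemS x ?_ ?_
    · have h := hQc _ (mem_conj_map.mp hx) _ hyQ
      calc x * y = g * (g⁻¹ * x * g * (g⁻¹ * y * g)) * g⁻¹ := by group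
        _ = _ := by rw [h]; group
    · have := (isPElt_of_mem Q.2 (mem_conj_map.mp hx)).conj g
      rwa [show g * (g⁻¹ * x * g) * g⁻¹ = x by group] at this
  rw [← hSQ]
  refine Nat.card_congr
    { toFun := fun w => ⟨v' * w, hcoset w w.2.1 w.2.2⟩
      invFun := fun s => ⟨v' * s, ⟨?_, ?_⟩, ?_⟩
      left_inv := fun w => Subtype.ext (by
        show v' * (v' * (w : G)) = w
        rw [← mul_assoc, hv'.1, one_mul])
      right_inv := fun s => Subtype.ext (by
        show v' * (v' * (s : G)) = s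
        rw [← mul_assoc, hv'.1, one_mul]) }
  · rw [show v' * (s : G) * (v' * s) = v' * s * v' * s by group, hinvS s s.2, inv_mul_cancel]
  · intro h
    have h1 : (s : G) = v' := by rw [eq_inv_of_mul_eq_one_right h, hv'.inv_eq]
    exact hv'.2 (c.eq_one_of_sq (h1 ▸ isPElt_of_mem hS s.2) hv'.1)
  · calc v' * (s : G) * y * (v' * s) = v' * ((s : G) * y) * v' * s := by group
      _ = y⁻¹ := by rw [hinvS _ (S.mul_mem s.2 hyS), mul_inv_rev, inv_mul_cancel_right]

/-- The product of two noncommuting involutions is a `p`-element. -/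
theorem isPElt_mul {u v : G} (hu : IsInv u) (hv : IsInv v) (huv : ¬ u * v = v * u) :
    IsPElt p (u * v) := by
  haveI : Fact p.Prime := ⟨c.prime⟩
  obtain ⟨a, b, hab, -, hbz, ⟨k, hk⟩, hbo⟩ := Transfer.exists_pPart_mul (p := p) (u * v)
  suffices hb : b = 1 by
    refine ⟨k, ?_⟩
    rw [hab, hb, mul_one, ← hk, pow_orderOf_eq_one]
  obtain ⟨i, rfl⟩ := mem_zpowers_iff.mp hbz
  have h1 : u * (u * v) ^ i * u⁻¹ = ((u * v) ^ i)⁻¹ := by
    rw [← conj_zpow, ← mul_assoc u u v, hu.1, one_mul, ← inv_zpow, mul_inv_rev, hu.inv_eq,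
      hv.inv_eq]
  by_contra hb1
  have hN : zpowers u ≤ normalizer ((zpowers ((u * v) ^ i) : Subgroup G) : Set G) :=
    zpowers_le.mpr (mem_normalizer_iff_map_conj_eq.mpr (by
      rw [MonoidHom.map_zpowers, show (MulAut.conj u : G →* G) ((u * v) ^ i) = ((u * v) ^ i)⁻¹ by
        simp [h1], zpowers_inv]))
  have hco := coprime_card_sup hN (p := p) (by rwa [Nat.card_zpowers])
    (by rw [Nat.card_zpowers]; exact hu.coprime c)
  have hc : (u * v) ^ i * u = u * (u * v) ^ i :=
    c.commute hco (mem_sup_left (mem_zpowers _)) (mem_sup_right (mem_zpowers u))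
  rw [← hc, mul_inv_cancel_right] at h1
  have hz : IsInv ((u * v) ^ i) := ⟨by nth_rw 2 [h1]; exact mul_inv_cancel _, hb1⟩
  have hzv : (u * v) ^ i * v = v * (u * v) ^ i := by
    have h2 : Commute ((u * v) ^ i) (u⁻¹ * (u * v)) :=
      (show Commute ((u * v) ^ i) u from hc).inv_right.mul_right (Commute.zpow_self (u * v) i)
    simpa using h2.eq
  obtain ⟨B, hB, hzB⟩ := hA.exists_emb_mem c hz
  have hle := hB.torus.cent_le c hzB hz.2
  exact huv (c.commute hB.torus.coprime
    (hB.mem_of_inv c hu (hle (mem_centralizer_singleton_iff.mpr hc.symm)))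
    (hB.mem_of_inv c hv (hle (mem_centralizer_singleton_iff.mpr hzv.symm))))

theorem card_noncommuting :
    Nat.card {x : {u : G // IsInv u} × {u : G // IsInv u} //
        ¬ (x.1 : G) * x.2 = x.2 * x.1} =
      Nat.card {u : G // IsInv u} * (Nat.card {u : G // IsInv u} - p) := by
  classical
  have hfib : ∀ u : {u : G // IsInv u}, Nat.card {v : {u : G // IsInv u} //
      ¬ (u : G) * v = v * u} = Nat.card {u : G // IsInv u} - p := by
    intro u
    obtain ⟨B, hB, huB⟩ := hA.exists_emb_mem c u.2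
    have h1 : Nat.card {v : {u : G // IsInv u} // (u : G) * v = v * u} = p := by
      rw [← hB.card_inv c]
      exact Nat.card_congr
        { toFun := fun v => ⟨v.1, hB.mem_of_inv c v.1.2
            (hB.torus.cent_le c huB u.2.2 (mem_centralizer_singleton_iff.mpr v.2.symm)), v.1.2⟩
          invFun := fun e => ⟨⟨e, e.2.2⟩, c.commute hB.torus.coprime huB e.2.1⟩
          left_inv := fun _ => rfl
          right_inv := fun _ => rfl }
    have h2 := Nat.card_congr (Equiv.sumCompl fun v : {u : G // IsInv u} => (u : G) * v = v * u)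
    rw [Nat.card_sum, h1] at h2
    omega
  rw [Nat.card_congr (Equiv.subtypeProdEquivSigmaSubtype
      fun (a b : {u : G // IsInv u}) => ¬ (a : G) * b = b * a),
    Nat.card_congr (Equiv.sigmaCongrRight fun u => Finite.equivFinOfCardEq (hfib u)),
    Nat.card_congr (Equiv.sigmaEquivProd _ _), Nat.card_prod, Nat.card_fin]

theorem false_of_emb : False := by
  haveI : Fact p.Prime := ⟨c.prime⟩
  classical
  obtain ⟨Q, v, hv, hQ, hpQ⟩ := hA.exists_inverted_sylow c
  let Y := {y : G // IsPElt p y ∧ y ≠ 1}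
  -- the two counts
  have h1 : Nat.card {x : {u : G // IsInv u} × {u : G // IsInv u} //
      ¬ (x.1 : G) * x.2 = x.2 * x.1} = Nat.card Y * Nat.card ↥(Q : Subgroup G) := by
    have hmul : ∀ x : {x : {u : G // IsInv u} × {u : G // IsInv u} //
        ¬ (x.1 : G) * x.2 = x.2 * x.1}, IsPElt p ((x.1.1 : G) * x.1.2) ∧ (x.1.1 : G) * x.1.2 ≠ 1 ∧
        (x.1.1 : G) * ((x.1.1 : G) * x.1.2) * x.1.1 = ((x.1.1 : G) * x.1.2)⁻¹ := by
      rintro ⟨⟨⟨a, ha⟩, ⟨b, hb⟩⟩, hab⟩
      refine ⟨hA.isPElt_mul c ha hb hab, fun h => hab ?_, ?_⟩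
      · show a * b = b * a
        have h' : a * b = 1 := h
        rw [show b = a by rw [eq_inv_of_mul_eq_one_right h', ha.inv_eq]]
      · show a * (a * b) * a = (a * b)⁻¹
        rw [mul_inv_rev, ha.inv_eq, hb.inv_eq, ← mul_assoc a, ha.1, one_mul]
    let F : {x : {u : G // IsInv u} × {u : G // IsInv u} // ¬ (x.1 : G) * x.2 = x.2 * x.1} →
        Σ y : Y, {w : G // IsInv w ∧ w * y * w = (y : G)⁻¹} := fun x =>
      ⟨⟨_, (hmul x).1, (hmul x).2.1⟩, ⟨x.1.1, x.1.1.2, (hmul x).2.2⟩⟩
    have hF : Function.Bijective F := by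
      constructor
      · rintro ⟨⟨⟨a, ha⟩, ⟨b, hb⟩⟩, hab⟩ ⟨⟨⟨a', ha'⟩, ⟨b', hb'⟩⟩, hab'⟩ h
        have h2 : a = a' := congrArg (fun s : Σ y : Y, {w : G // IsInv w ∧ w * y * w = (y : G)⁻¹} =>
          (s.2 : G)) h
        have h3 : a * b = a' * b' := congrArg
          (fun s : Σ y : Y, {w : G // IsInv w ∧ w * y * w = (y : G)⁻¹} => (s.1 : G)) h
        subst h2
        obtain rfl := mul_left_cancel h3
        rfl
      · rintro ⟨⟨y, hy⟩, ⟨w, hw, hwy⟩⟩
        have hwy' : w * y * w = y⁻¹ := hwy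
        have h2 : IsInv (w * y) := by
          refine ⟨by rw [show w * y * (w * y) = w * y * w * y by group, hwy', inv_mul_cancel],
            fun h => hw.2 (c.eq_one_of_sq ?_ hw.1)⟩
          rw [show w = y by rw [eq_inv_of_mul_eq_one_right h, hw.inv_eq]]
          exact hy.1
        refine ⟨⟨(⟨w, hw⟩, ⟨w * y, h2⟩), fun h => hy.2 (c.eq_one_of_sq hy.1 ?_)⟩, ?_⟩
        · have h' : w * (w * y) = w * y * w := h
          rw [← mul_assoc, hw.1, one_mul, hwy'] at h'
          calc y * y = y * y⁻¹ := by rw [← h']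
            _ = 1 := mul_inv_cancel _
        · have h : w * (w * y) = y := by rw [← mul_assoc, hw.1, one_mul]
          refine Sigma.ext (Subtype.ext h) ((Subtype.heq_iff_coe_eq fun a => ?_).mpr rfl)
          show IsInv a ∧ a * (w * (w * y)) * a = (w * (w * y))⁻¹ ↔ IsInv a ∧ a * y * a = y⁻¹
          rw [h]
    rw [Nat.card_congr (Equiv.ofBijective F hF),
      Nat.card_congr (Equiv.sigmaCongrRight fun y : Y =>
        Finite.equivFinOfCardEq (hA.card_inverters c hv hQ y.2.1 y.2.2)),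
      Nat.card_congr (Equiv.sigmaEquivProd _ _), Nat.card_prod, Nat.card_fin]
  rw [hA.card_noncommuting c] at h1
  -- the number of `p`-elements is divisible by `p`
  have hY : p ∣ Nat.card Y + 1 := by
    let Y' := {y : G // IsPElt p y}
    have hY' : Nat.card Y' = Nat.card Y + 1 := by
      rw [← Finite.card_option]
      refine (Nat.card_congr (Equiv.trans (Equiv.optionCongr ?_)
        (Equiv.optionSubtypeNe (⟨1, 0, one_pow _⟩ : Y')))).symm
      exact
        { toFun := fun y => ⟨⟨y, y.2.1⟩, fun h => y.2.2 (congrArg Subtype.val h)⟩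
          invFun := fun y => ⟨y.1, y.1.2, fun h => y.2 (Subtype.ext h)⟩
          left_inv := fun _ => rfl
          right_inv := fun _ => rfl }
    rw [← hY']
    let act : MulAction ↥(Q : Subgroup G) Y' :=
      { smul := fun q y => ⟨(q : G) * y * (q : G)⁻¹, y.2.conj _⟩
        one_smul := fun y => Subtype.ext (by show (1 : G) * y * (1 : G)⁻¹ = y; group)
        mul_smul := fun g h y => Subtype.ext (by
          show (g : G) * h * y * ((g : G) * h)⁻¹ = g * (h * y * (h : G)⁻¹) * (g : G)⁻¹; group) }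
    have hsmul : ∀ (q : ↥(Q : Subgroup G)) (y : Y'),
        ((q • y : Y') : G) = q * y * (q : G)⁻¹ := fun q y => rfl
    have hfix : Nat.card ↥(MulAction.fixedPoints ↥(Q : Subgroup G) Y') =
        Nat.card ↥(Q : Subgroup G) := by
      have hcomm : ∀ (y : Y'), y ∈ MulAction.fixedPoints ↥(Q : Subgroup G) Y' ↔
          ∀ q ∈ (Q : Subgroup G), q * (y : G) = y * q := by
        intro y
        constructor
        · intro h q hq
          have := congrArg Subtype.val (h ⟨q, hq⟩)
          rw [hsmul] at this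
          exact mul_inv_eq_iff_eq_mul.mp this
        · intro h q
          exact Subtype.ext (by rw [hsmul, h q q.2, mul_inv_cancel_right])
      refine Nat.card_congr
        { toFun := fun y => ⟨((y : Y') : G), ?_⟩
          invFun := fun q => ⟨⟨q, isPElt_of_mem Q.2 q.2⟩, (hcomm _).mpr fun a ha => ?_⟩
          left_inv := fun _ => rfl
          right_inv := fun _ => rfl }
      · have hyc := (hcomm _).mp y.2
        obtain ⟨k, hk⟩ := (y : Y').2
        obtain ⟨j, -, hj⟩ := (Nat.dvd_prime_pow c.prime).mp (orderOf_dvd_of_pow_eq_one hk)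
        have hp : IsPGroup p ↥(zpowers ((y : Y') : G)) :=
          IsPGroup.of_card (n := j) (by rw [Nat.card_zpowers, hj])
        have hn : zpowers ((y : Y') : G) ≤ normalizer ((Q : Subgroup G) : Set G) :=
          zpowers_le.mpr (centralizer_le_normalizer _ (mem_centralizer_iff.mpr fun q hq => hyc q hq))
        have hsup := hp.to_sup_of_normal_right' Q.2 hn
        exact (SetLike.ext_iff.mp (Q.3 hsup le_sup_right) _).mp (mem_sup_left (mem_zpowers _))
      · have h1' := hQ (a * q) (mul_mem ha q.2)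
        rw [show v * (a * (q : G)) * v = v * a * v * (v * q * v) by
          rw [show v * a * v * (v * (q : G) * v) = v * a * (v * v) * q * v by group, hv.1, mul_one,
            ← mul_assoc], hQ a ha, hQ q q.2, ← mul_inv_rev, inv_inj] at h1'
        exact h1'.symm
    have hmod := Q.2.card_modEq_card_fixedPoints Y'
    rw [hfix] at hmod
    exact Nat.modEq_zero_iff_dvd.mp (hmod.trans (Nat.modEq_zero_iff_dvd.mpr hpQ))
  -- the order of a Sylow subgroup
  obtain ⟨-, hco, k, hk⟩ :=
    hA.torus.isCompl_of_le c (hA.torus.normalizer_ne_top c) le_normalizer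
  have hk1 : p ^ k ≤ p := by
    obtain ⟨P, hP⟩ := Sylow.exists_subgroup_card_pow_prime (G := ↥(normalizer (A : Set G))) p
      (n := k) (hk.symm ▸ dvd_mul_left _ _)
    have h7 := hA.seven_le
    obtain ⟨e⟩ : Nonempty (Invs A) := (Nat.card_pos_iff.mp (by omega)).1
    rw [← hP]
    refine (Nat.card_le_card_of_injective (fun x : ↥P =>
      (⟨((x : ↥(normalizer (A : Set G))) : G) * e * ((x : ↥(normalizer (A : Set G))) : G)⁻¹,
        (mem_normalizer_iff.mp (x : ↥(normalizer (A : Set G))).2 _).mp e.2.1, e.2.2.conj _⟩ :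
          Invs A)) ?_).trans (hA.card_inv c).le
    intro x x' h
    have h0 := congrArg Subtype.val h
    dsimp only at h0
    obtain ⟨l, hl⟩ := IsPGroup.of_card (p := p) hP (x'⁻¹ * x)
    have hs := hA.eq_one_of_fix c ((x'⁻¹ * x : ↥P) : ↥(normalizer (A : Set G))).2
      (k := l) (congrArg (fun z : ↥P => ((z : ↥(normalizer (A : Set G))) : G)) hl) e.2.2 e.2.1
      (show ((x' : ↥(normalizer (A : Set G))) : G)⁻¹ * ((x : ↥(normalizer (A : Set G))) : G) * e =
          e * (((x' : ↥(normalizer (A : Set G))) : G)⁻¹ * ((x : ↥(normalizer (A : Set G))) : G)) by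
        generalize ((x' : ↥(normalizer (A : Set G))) : G) = a at h0
        generalize ((x : ↥(normalizer (A : Set G))) : G) = b at h0
        calc a⁻¹ * b * e = a⁻¹ * (b * e * b⁻¹) * b := by group
          _ = _ := by rw [h0]; group)
    exact (inv_mul_eq_one.mp (show x'⁻¹ * x = 1 from Subtype.ext (Subtype.ext hs))).symm
  obtain ⟨j, hj⟩ := IsPGroup.iff_card.mp Q.2
  set n := Nat.card (G ⧸ normalizer (A : Set G)) with hn
  have hdvd : p ^ j ∣ n * p := by
    have h2 : p ^ j ∣ n * (Nat.card ↥A * p ^ k) := by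
      rw [← hj, ← hk, hn, ← Subgroup.card_eq_card_quotient_mul_card_subgroup]
      exact card_subgroup_dvd_card _
    rw [mul_left_comm] at h2
    refine ((hco.pow_right j).symm.dvd_of_dvd_mul_left h2).trans (Nat.mul_dvd_mul_left n ?_)
    obtain ⟨i, rfl | rfl⟩ : ∃ i, k = 0 ∨ k = i + 1 := ⟨k - 1, by omega⟩
    · simp
    · have : p ^ (i + 1) ≤ p ^ 1 := by rwa [pow_one]
      rw [show i = 0 by have := (Nat.pow_le_pow_iff_right c.prime.one_lt).mp this; omega,
        zero_add, pow_one]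
  have hN : p ∣ Nat.card Y := by
    refine Nat.dvd_of_mul_dvd_mul_left (k := p ^ j) (pow_pos c.prime.pos j) ?_
    rw [mul_comm _ (Nat.card Y), ← hj, ← h1, hA.card_all c, ← hn, hj,
      show n * p - p = (n - 1) * p from (Nat.sub_one_mul n p).symm, ← mul_assoc]
    exact Nat.mul_dvd_mul (hdvd.trans (dvd_mul_right _ _)) dvd_rfl
  exact c.prime.one_lt.ne' (Nat.dvd_one.mp ((Nat.dvd_add_right hN).mp hY))

end Emb

/-- The configuration has odd order. -/
theorem Cfg.false_of_even (c : Cfg p G) (hev : 2 ∣ Nat.card G) : False := by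
  obtain ⟨A, hA⟩ := c.exists_emb hev
  exact hA.false_of_emb c

end Cfsg.Agent.AbelianPPrime
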