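/-
A finite group whose subgroups of order prime to `p` are abelian of exponent dividing `p - 1` is
solvable, granted the solvability of groups of odd order.

Main result: `isSolvable_of_abelian_pPrime`.
-/
import Cfsg.Agent.Lib.AbelianPPrime.Main
import Cfsg.Agent.Lib.CharApp.Burnside

set_option autoImplicit false

namespace Cfsg.Agent.AbelianPPrime

open Subgroup
open scoped Pointwise

universe u

/-- The condition on the subgroups of order prime to `p`. -/
def Hyp (p : ℕ) (G : Type u) [Group G] : Prop :=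
  ∀ H : Subgroup G, (Nat.card ↥H).Coprime p → IsMulCommutative ↥H ∧ ∀ x ∈ H, x ^ (p - 1) = 1

theorem Hyp.subgroup {p : ℕ} {G : Type u} [Group G] (h : Hyp p G) (X : Subgroup G) :
    Hyp p ↥X := by
  intro H hH
  obtain ⟨h1, h2⟩ := h (H.map X.subtype) (by rwa [Cores.card_map_subtype])
  refine ⟨⟨⟨fun a b => ?_⟩⟩, fun x hx => Subtype.ext (h2 _ ⟨x, hx, rfl⟩)⟩
  exact Subtype.ext (Subtype.ext (congrArg (fun w : ↥(H.map X.subtype) => (w : G))
    (h1.1.1 ⟨_, a, a.2, rfl⟩ ⟨_, b, b.2, rfl⟩)))

theorem Hyp.quotient {p : ℕ} [Fact p.Prime] {G : Type u} [Group G] [Finite G] (h : Hyp p G)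
    (N : Subgroup G) [N.Normal] : Hyp p (G ⧸ N) := by
  intro Hb hHb
  set π := QuotientGroup.mk' N with hπ
  set Y := Hb.comap π with hY
  have hNY : N ≤ Y := fun x hx => by
    show π x ∈ Hb
    rw [show π x = 1 from (QuotientGroup.eq_one_iff x).mpr hx]
    exact one_mem _
  haveI : (N.subgroupOf Y).Normal := Normal.subgroupOf ‹N.Normal› _
  obtain ⟨P⟩ : Nonempty (Sylow p ↥(N.subgroupOf Y)) := inferInstance
  set P' := (P : Subgroup ↥(N.subgroupOf Y)).map (N.subgroupOf Y).subtype with hP'
  set T := normalizer (P' : Set ↥Y)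
  have hT : T ⊔ N.subgroupOf Y = ⊤ := Sylow.normalizer_sup_eq_top P
  have hPT : P' ≤ T := le_normalizer
  haveI : (P'.subgroupOf T).Normal := normal_subgroupOf_of_le_normalizer le_rfl
  -- `P'` is a Sylow subgroup of `Y`
  have hPY : ¬ p ∣ P'.index := by
    rw [hP', Subgroup.index_map_subtype]
    refine Nat.Prime.not_dvd_mul (Fact.out : p.Prime) P.not_dvd_index ?_
    have hidx : (N.subgroupOf Y).index = Nat.card ↥Hb := by
      have hN : N.subgroupOf Y = (π.subgroupComap Hb).ker := by
        ext x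
        rw [MonoidHom.mem_ker, mem_subgroupOf]
        exact ⟨fun hx => Subtype.ext ((QuotientGroup.eq_one_iff _).mpr hx),
          fun hx => (QuotientGroup.eq_one_iff _).mp (congrArg Subtype.val hx)⟩
      rw [hN, Subgroup.index_ker, MonoidHom.range_eq_top.mpr
        (MonoidHom.subgroupComap_surjective_of_surjective π Hb (QuotientGroup.mk'_surjective N)),
        card_top]
    rw [hidx]
    exact (Fact.out : p.Prime).coprime_iff_not_dvd.mp hHb.symm
  have hPc : ¬ p ∣ (P'.subgroupOf T).index := fun hd =>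
    hPY (hd.trans (Subgroup.relIndex_dvd_index_of_le hPT))
  have hPp : IsPGroup p ↥(P'.subgroupOf T) := (P.2.map _).comap_subtype
  obtain ⟨k, hk⟩ := IsPGroup.iff_card.mp hPp
  have hco : (Nat.card ↥(P'.subgroupOf T)).Coprime (P'.subgroupOf T).index := by
    rw [hk]
    exact ((Fact.out : p.Prime).coprime_iff_not_dvd.mpr hPc).pow_left k
  obtain ⟨K, hK⟩ := Subgroup.exists_right_complement'_of_coprime hco
  have hKc : (Nat.card ↥((K.map T.subtype).map Y.subtype)).Coprime p := by
    rw [Cores.card_map_subtype, Cores.card_map_subtype]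
    have h1 := hK.card_mul
    rw [← Subgroup.card_mul_index (P'.subgroupOf T)] at h1
    rw [Nat.eq_of_mul_eq_mul_left Nat.card_pos h1]
    exact ((Fact.out : p.Prime).coprime_iff_not_dvd.mpr hPc).symm
  obtain ⟨h1, h2⟩ := h _ hKc
  have hsurj : ∀ x ∈ Hb, ∃ a ∈ (K.map T.subtype).map Y.subtype, π a = x := by
    intro x hx
    obtain ⟨g, rfl⟩ := QuotientGroup.mk'_surjective N x
    obtain ⟨t, ht, n, hn, htn⟩ :=
      mem_sup_of_normal_right.mp (hT.ge (mem_top (⟨g, hx⟩ : ↥Y)))
    obtain ⟨q, hq, a, ha, hqa⟩ :=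
      mem_sup_of_normal_left.mp (hK.sup_eq_top.ge (mem_top (⟨t, ht⟩ : ↥T)))
    refine ⟨((a : ↥Y) : G), ⟨_, ⟨a, ha, rfl⟩, rfl⟩, ?_⟩
    have hq1 : π ((q : ↥Y) : G) = 1 :=
      (QuotientGroup.eq_one_iff _).mpr (show ((q : ↥Y) : G) ∈ N by
        obtain ⟨q', -, hq'⟩ := (hq : (q : ↥Y) ∈ P')
        rw [show ((q : ↥Y) : G) = ((q' : ↥Y) : G) from congrArg Subtype.val hq'.symm]
        exact q'.2)
    have hn1 : π (n : G) = 1 := (QuotientGroup.eq_one_iff _).mpr hn
    have e : g = ((q : ↥Y) : G) * ((a : ↥Y) : G) * (n : G) := by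
      have e1 : ((q : ↥Y) : G) * ((a : ↥Y) : G) = (t : G) :=
        congrArg (fun z : ↥T => ((z : ↥Y) : G)) hqa
      have e2 : (t : G) * (n : G) = g := congrArg Subtype.val htn
      rw [e1, e2]
    rw [e, map_mul, map_mul, hq1, hn1, one_mul, mul_one]
  refine ⟨⟨⟨fun a b => Subtype.ext ?_⟩⟩, fun x hx => ?_⟩
  · obtain ⟨a', ha', ea⟩ := hsurj a a.2
    obtain ⟨b', hb', eb⟩ := hsurj b b.2
    show (a : G ⧸ N) * b = b * a
    rw [← ea, ← eb, ← map_mul, ← map_mul]
    exact congrArg π (congrArg Subtype.val (h1.1.1 ⟨a', ha'⟩ ⟨b', hb'⟩))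
  · obtain ⟨a', ha', rfl⟩ := hsurj x hx
    rw [← map_pow, h2 a' ha', map_one]

theorem isSolvable_aux (p : ℕ) [Fact p.Prime]
    (hodd : ∀ (H : Type u) [Group H] [Finite H], Odd (Nat.card H) → Group.IsSolvable H) :
    ∀ (m : ℕ) (G : Type u) [Group G] [Finite G], Nat.card G = m → Hyp p G →
      Group.IsSolvable G := by
  intro m
  induction m using Nat.strong_induction_on with
  | _ m ih =>
  intro G _ _ hm h
  have hp : p.Prime := Fact.out
  by_cases hab : IsMulCommutative G
  · exact Group.isSolvable_of_comm fun a b => hab.1.1 a b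
  haveI : Nontrivial G := by
    by_contra hn
    rw [not_nontrivial_iff_subsingleton] at hn
    exact hab ⟨⟨fun a b => Subsingleton.elim _ _⟩⟩
  have hsub : ∀ X : Subgroup G, X ≠ ⊤ → Group.IsSolvable ↥X := fun X hX =>
    ih _ (hm ▸ lt_of_le_of_ne (Nat.le_of_dvd Nat.card_pos (card_subgroup_dvd_card X))
      fun e => hX (eq_top_of_card_eq X e)) ↥X rfl (h.subgroup X)
  by_cases hs : IsSimpleGroup G
  swap
  · obtain ⟨N, hN, hN1, hN2⟩ : ∃ N : Subgroup G, N.Normal ∧ N ≠ ⊥ ∧ N ≠ ⊤ := by
      by_contra hcon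
      push Not at hcon
      exact hs ⟨fun N hN => or_iff_not_imp_left.mpr (hcon N hN)⟩
    haveI := hsub N hN2
    haveI : Group.IsSolvable (G ⧸ N) := by
      refine ih _ ?_ _ rfl (h.quotient N)
      rw [← hm, ← N.card_mul_index]
      exact lt_mul_of_one_lt_left (index_ne_zero_of_finite.bot_lt)
        (N.one_lt_card_iff_ne_bot.mpr hN1)
    exact Group.isSolvable_of_ker_le_range N.subtype (QuotientGroup.mk' N)
      (by rw [QuotientGroup.ker_mk', range_subtype])
  rcases Nat.even_or_odd (Nat.card G) with hev | ho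
  swap
  · exact hodd G ho
  -- every prime divisor is `p` or less than `p`
  have hlt : ∀ r, r.Prime → r ∣ Nat.card G → r ≠ p → r < p ∧ r ≤ p - 1 := by
    intro r hr hd hrp
    haveI : Fact r.Prime := ⟨hr⟩
    obtain ⟨x, hx⟩ := exists_prime_orderOf_dvd_card' (G := G) r hd
    have h1 := (h (zpowers x) (by
      rw [Nat.card_zpowers, hx]; exact (Nat.coprime_primes hr hp).mpr hrp)).2 x (mem_zpowers x)
    have := Nat.le_of_dvd (by have := hp.two_le; omega) (hx ▸ orderOf_dvd_of_pow_eq_one h1)
    omega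
  by_cases h5 : 5 ≤ p
  · exact ((⟨hp, h5, h, hs, hab, hsub⟩ : Cfg p G).false_of_even (even_iff_two_dvd.mp hev)).elim
  · obtain ⟨a, b, hab'⟩ : ∃ a b : ℕ, Nat.card G = 2 ^ a * p ^ b := by
      refine ⟨(Nat.card G).factorization 2, if p = 2 then 0 else (Nat.card G).factorization p, ?_⟩
      have hG : Nat.card G ≠ 0 := Nat.card_pos.ne'
      have h1 : ∀ r, r.Prime → r ∣ Nat.card G → r = 2 ∨ r = p := fun r hr hd => by
        by_contra hcon
        push Not at hcon
        obtain ⟨h2, h3⟩ := hlt r hr hd hcon.2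
        have := hr.two_le
        have : r = 2 ∨ r = 3 := by omega
        rcases this with rfl | rfl
        · exact hcon.1 rfl
        · have : p ≠ 4 := fun e => by rw [e] at hp; norm_num at hp
          omega
      refine Nat.eq_of_factorization_eq hG (by have := hp.pos; positivity) fun r => ?_
      rw [Nat.factorization_mul (by positivity) (by have := hp.pos; positivity),
        Nat.Prime.factorization_pow Nat.prime_two, Nat.Prime.factorization_pow hp,
        Finsupp.add_apply, Finsupp.single_apply, Finsupp.single_apply]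
      by_cases hr : r.Prime ∧ r ∣ Nat.card G
      · rcases h1 r hr.1 hr.2 with rfl | rfl
        · by_cases e : p = 2 <;> simp [e]
        · by_cases e : r = 2
          · subst e; simp
          · simp [e, Ne.symm e]
      · rw [show (Nat.card G).factorization r = 0 from
          Nat.factorization_eq_zero_iff _ _ |>.mpr (by tauto)]
        have h20 : 2 = r → (Nat.card G).factorization 2 = 0 := fun e => by
          rw [e]; exact Nat.factorization_eq_zero_iff _ _ |>.mpr (by tauto)
        have hp0 : p = r → (Nat.card G).factorization p = 0 := fun e => by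
          rw [e]; exact Nat.factorization_eq_zero_iff _ _ |>.mpr (by tauto)
        split_ifs <;> simp_all
    exact CharApp.isSolvable_of_card_eq_prime_pow_mul 2 p Nat.prime_two hp _ G rfl a b hab'

/-- A finite group whose subgroups of order prime to `p` are abelian of exponent dividing `p - 1`
is solvable, granted the solvability of groups of odd order. -/
theorem isSolvable_of_abelian_pPrime {G : Type u} [Group G] [Finite G] (p : ℕ) [Fact p.Prime]
    (hodd : ∀ (H : Type u) [Group H] [Finite H], Odd (Nat.card H) → Group.IsSolvable H)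
    (h : ∀ H : Subgroup G, (Nat.card ↥H).Coprime p →
      IsMulCommutative ↥H ∧ ∀ x ∈ H, x ^ (p - 1) = 1) : Group.IsSolvable G :=
  isSolvable_aux p hodd _ G rfl h

end Cfsg.Agent.AbelianPPrime
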